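import Cfsg.Agent.Lib.BlockRank.FreeSections
import Mathlib.GroupTheory.PGroup
import Mathlib.Data.Set.Card

/-!
# An automorphism group of order nine of an elementary abelian group of order sixteen
-/

set_option autoImplicit false
set_option maxHeartbeats 800000

namespace CfsgLib.BlockSixteen

universe u

variable {G : Type u} [Group G] [Finite G]

/-- The stabilizer of an element under conjugation. -/
def stab (S : Subgroup G) (u : G) : Subgroup G := S ⊓ Subgroup.centralizer ({u} : Set G)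

/-- The orbit of an element under conjugation. -/
def orb (S : Subgroup G) (u : G) : Set G := Set.range fun y : S => (y : G) * u * (y : G)⁻¹

variable {S P : Subgroup G}

omit [Finite G] in
theorem mem_stab_iff {u y : G} : y ∈ stab S u ↔ y ∈ S ∧ y * u * y⁻¹ = u := by
  rw [stab, Subgroup.mem_inf, Subgroup.mem_centralizer_singleton_iff, mul_inv_eq_iff_eq_mul]

theorem ncard_orb (u : G) : (orb S u).ncard = (stab S u).relIndex S := by
  rw [← Nat.card_coe_set_eq]
  exact BlockRank.card_orbit_free inf_le_left u fun y hy =>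
    ⟨fun h => mem_stab_iff.2 ⟨hy, h⟩, fun h => (mem_stab_iff.1 h).2⟩

omit [Finite G] in
theorem orb_subset (hN : S ≤ Subgroup.normalizer (P : Set G)) {u : G} (hu : u ∈ P) :
    orb S u ⊆ (P : Set G) := by
  rintro _ ⟨y, rfl⟩
  exact (Subgroup.mem_normalizer_iff.1 (hN y.2) u).1 hu

omit [Finite G] in
theorem mem_orb_self (u : G) : u ∈ orb S u := ⟨1, by simp⟩

omit [Finite G] in
theorem orb_trans {u v w : G} (h : v ∈ orb S u) (h' : w ∈ orb S v) : w ∈ orb S u := by
  obtain ⟨y, rfl⟩ := h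
  obtain ⟨z, rfl⟩ := h'
  exact ⟨z * y, by simp only [Subgroup.coe_mul]; group⟩

omit [Finite G] in
theorem orb_symm {u v : G} (h : v ∈ orb S u) : u ∈ orb S v := by
  obtain ⟨y, rfl⟩ := h
  exact ⟨y⁻¹, by simp only [Subgroup.coe_inv]; group⟩

omit [Finite G] in
theorem disjoint_orb {u v : G} (h : v ∉ orb S u) : Disjoint (orb S u) (orb S v) :=
  Set.disjoint_left.2 fun _ hu hv => h (orb_trans hu (orb_symm hv))

/-- The orbits of representatives fill the group. -/
theorem sum_orb {σ : Type*} (T : Finset σ) (φ : σ → G) (hN : S ≤ Subgroup.normalizer (P : Set G))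
    (hmem : ∀ s ∈ T, φ s ∈ P) (hsurj : ∀ u ∈ P, ∃ s ∈ T, ∃ y ∈ S, y * φ s * y⁻¹ = u)
    (hinj : ∀ s₁ ∈ T, ∀ s₂ ∈ T, ∀ y ∈ S, y * φ s₁ * y⁻¹ = φ s₂ → s₁ = s₂) :
    ∑ s ∈ T, (stab S (φ s)).relIndex S = Nat.card P := by
  classical
  haveI := Fintype.ofFinite G
  rw [Finset.sum_congr rfl fun s _ => (ncard_orb (φ s)).symm,
    show Nat.card P = ((P : Set G).toFinset).card by
      rw [Nat.card_eq_fintype_card, Set.toFinset_card]; rfl]
  rw [Finset.sum_congr rfl fun s _ => Set.ncard_eq_toFinset_card' (orb S (φ s)),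
    ← Finset.card_biUnion]
  · congr 1
    ext u
    simp only [Finset.mem_biUnion, Set.mem_toFinset]
    constructor
    · rintro ⟨s, hs, hu⟩
      exact orb_subset hN (hmem s hs) hu
    · intro hu
      obtain ⟨s, hs, y, hy, h⟩ := hsurj u hu
      exact ⟨s, hs, ⟨y, hy⟩, h⟩
  · intro s hs t ht hne
    rw [Function.onFun, Set.disjoint_toFinset]
    refine disjoint_orb fun h => hne ?_
    obtain ⟨y, hy⟩ := h
    exact hinj s hs t ht y y.2 hy

/-- A group acting as a group of order nine on an elementary abelian group of order sixteen. -/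
structure Nine (P S : Subgroup G) : Prop where
  comm : ∀ x ∈ P, ∀ y ∈ P, x * y = y * x
  exp : ∀ x ∈ P, x * x = 1
  card : Nat.card P = 16
  norm : S ≤ Subgroup.normalizer (P : Set G)
  cent : Subgroup.centralizer (P : Set G) ≤ S
  idx : (Subgroup.centralizer (P : Set G)).relIndex S = 9

theorem Nine.centralizer_le_stab (h : Nine P S) {u : G} (hu : u ∈ P) :
    Subgroup.centralizer (P : Set G) ≤ stab S u :=
  le_inf h.cent (Subgroup.centralizer_le (by simpa using hu))

theorem Nine.conj_mem (h : Nine P S) {y u : G} (hy : y ∈ S) (hu : u ∈ P) : y * u * y⁻¹ ∈ P :=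
  (Subgroup.mem_normalizer_iff.1 (h.norm hy) u).1 hu

theorem Nine.normal (h : Nine P S) :
    ((Subgroup.centralizer (P : Set G)).subgroupOf S).Normal := by
  refine ⟨fun c hc y => ?_⟩
  show ((y : G) * c * (y : G)⁻¹) ∈ Subgroup.centralizer (P : Set G)
  rw [Subgroup.mem_centralizer_iff]
  intro q hq
  have hq' : (y : G)⁻¹ * q * y ∈ P := by
    simpa using h.conj_mem (inv_mem y.2) hq
  have := Subgroup.mem_centralizer_iff.1 (show (c : G) ∈ Subgroup.centralizer (P : Set G) from hc) _ hq'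
  calc q * ((y : G) * c * (y : G)⁻¹) = (y : G) * (((y : G)⁻¹ * q * y) * c) * (y : G)⁻¹ := by group
    _ = (y : G) * c * (y : G)⁻¹ * q := by rw [this]; group

/-- The action is commutative. -/
theorem Nine.conj_comm (h : Nine P S) {y z u : G} (hy : y ∈ S) (hz : z ∈ S) (hu : u ∈ P) :
    y * (z * u * z⁻¹) * y⁻¹ = z * (y * u * y⁻¹) * z⁻¹ := by
  haveI := h.normal
  haveI : Fact (Nat.Prime 3) := ⟨Nat.prime_three⟩
  have hcard : Nat.card (S ⧸ (Subgroup.centralizer (P : Set G)).subgroupOf S) = 3 ^ 2 := by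
    rw [← Subgroup.index_eq_card]; exact h.idx
  have hc := IsPGroup.commutative_of_card_eq_prime_sq hcard
    (QuotientGroup.mk (⟨y, hy⟩ : S)) (QuotientGroup.mk (⟨z, hz⟩ : S))
  rw [← QuotientGroup.mk_mul, ← QuotientGroup.mk_mul, QuotientGroup.eq] at hc
  have hc' : (y * z)⁻¹ * (z * y) ∈ Subgroup.centralizer (P : Set G) := hc
  have := Subgroup.mem_centralizer_iff.1 hc' u hu
  calc y * (z * u * z⁻¹) * y⁻¹ = (y * z) * (u * ((y * z)⁻¹ * (z * y))) * (z * y)⁻¹ := by group
    _ = (y * z) * ((y * z)⁻¹ * (z * y) * u) * (z * y)⁻¹ := by rw [this]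
    _ = z * (y * u * y⁻¹) * z⁻¹ := by group

/-- A commutator with a fixed value is trivial. -/
theorem Nine.eq_of_fixed (h : Nine P S) {y w : G} (hy : y ∈ S) (hw : w ∈ P)
    (hfix : ∀ z ∈ S, z * (y * w * y⁻¹ * w⁻¹) * z⁻¹ = y * w * y⁻¹ * w⁻¹) : y * w * y⁻¹ = w := by
  haveI := h.normal
  obtain ⟨δ, hδ⟩ : ∃ δ, δ = y * w * y⁻¹ * w⁻¹ := ⟨_, rfl⟩
  rw [← hδ] at hfix
  have hn : ∀ n : ℕ, y ^ n * w * (y ^ n)⁻¹ = δ ^ n * w := by
    intro n
    induction n with
    | zero => simp
    | succ n ih =>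
      have h1 : y * δ ^ n * y⁻¹ = δ ^ n := by rw [← conj_pow, hfix y hy]
      calc y ^ (n + 1) * w * (y ^ (n + 1))⁻¹ = y * (y ^ n * w * (y ^ n)⁻¹) * y⁻¹ := by
            rw [pow_succ']; group
        _ = y * δ ^ n * y⁻¹ * (y * w * y⁻¹) := by rw [ih]; group
        _ = δ ^ (n + 1) * w := by rw [h1, show y * w * y⁻¹ = δ * w by rw [hδ]; group,
              ← mul_assoc, ← pow_succ]
  have h9 : (⟨y, hy⟩ : S) ^ ((Subgroup.centralizer (P : Set G)).subgroupOf S).index ∈
      (Subgroup.centralizer (P : Set G)).subgroupOf S := Subgroup.pow_index_mem _ _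
  rw [show ((Subgroup.centralizer (P : Set G)).subgroupOf S).index = 9 from h.idx] at h9
  have h9' : y ^ 9 ∈ Subgroup.centralizer (P : Set G) := by simpa [Subgroup.mem_subgroupOf] using h9
  have hcy := Subgroup.mem_centralizer_iff.1 h9' w hw
  have h1 := hn 9
  rw [show y ^ 9 * w * (y ^ 9)⁻¹ = w by rw [← hcy]; group, eq_comm, mul_eq_right] at h1
  have h2 : δ * δ = 1 := hδ ▸ h.exp _ (mul_mem (h.conj_mem hy hw) (inv_mem hw))
  have hδ1 : δ = 1 := by
    rw [show δ ^ 9 = (δ * δ) ^ 4 * δ by rw [← pow_two, ← pow_mul, ← pow_succ], h2, one_pow,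
      one_mul] at h1
    exact h1
  rw [hδ1] at hδ
  exact mul_inv_eq_one.1 hδ.symm

/-- The elements fixed by a stabilizer. -/
def fix (P S : Subgroup G) (u : G) : Subgroup G :=
  P ⊓ Subgroup.centralizer (stab S u : Set G)

omit [Finite G] in
theorem mem_fix_iff {u v : G} :
    v ∈ fix P S u ↔ v ∈ P ∧ ∀ y ∈ stab S u, y * v * y⁻¹ = v := by
  rw [fix, Subgroup.mem_inf, Subgroup.mem_centralizer_iff]
  simp only [mul_inv_eq_iff_eq_mul, SetLike.mem_coe]

theorem Nine.conj_fix (h : Nine P S) {u v z : G} (hz : z ∈ S) (hv : v ∈ fix P S u) :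
    z * v * z⁻¹ ∈ fix P S u := by
  obtain ⟨hvP, hvf⟩ := mem_fix_iff.1 hv
  refine mem_fix_iff.2 ⟨h.conj_mem hz hvP, fun y hy => ?_⟩
  rw [h.conj_comm (mem_stab_iff.1 hy).1 hz hvP, hvf y hy]

theorem Nine.stab_cases (h : Nine P S) {u : G} (hu : u ∈ P) :
    (stab S u).relIndex S = 1 ∨ (stab S u).relIndex S = 3 ∨
      stab S u = Subgroup.centralizer (P : Set G) := by
  have hm := Subgroup.relIndex_mul_relIndex _ _ S (h.centralizer_le_stab hu) inf_le_left
  rw [h.idx] at hm
  obtain ⟨i, hi, hie⟩ := (Nat.dvd_prime_pow Nat.prime_three).1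
    (Dvd.intro_left _ hm : (stab S u).relIndex S ∣ 3 ^ 2)
  interval_cases i
  · exact Or.inl hie
  · exact Or.inr (Or.inl hie)
  · refine Or.inr (Or.inr (le_antisymm ?_ (h.centralizer_le_stab hu)))
    rw [hie] at hm
    exact Subgroup.relIndex_eq_one.1 (by omega)

/-- There is a regular orbit. -/
theorem Nine.exists_regular (h : Nine P S) :
    ∃ x ∈ P, stab S x = Subgroup.centralizer (P : Set G) := by
  by_contra hcon
  push Not at hcon
  have hsub : ∀ u ∈ P, (stab S u).relIndex S ≤ 3 := fun u hu => by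
    rcases h.stab_cases hu with e | e | e
    · omega
    · omega
    · exact absurd e (hcon u hu)
  obtain ⟨w, hw, hwS⟩ : ∃ w ∈ P, ¬ S ≤ stab S w := by
    by_contra hall
    push Not at hall
    have : S ≤ Subgroup.centralizer (P : Set G) := fun y hy => Subgroup.mem_centralizer_iff.2
      fun q hq => (mul_inv_eq_iff_eq_mul.1 (mem_stab_iff.1 (hall q hq hy)).2).symm
    have h1 := Subgroup.relIndex_eq_one.2 this
    rw [h.idx] at h1
    omega
  have hwC : ¬ stab S w ≤ Subgroup.centralizer (P : Set G) := fun hle =>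
    hcon w hw (le_antisymm hle (h.centralizer_le_stab hw))
  obtain ⟨y₀, hy₀, hy₀C⟩ := SetLike.not_le_iff_exists.1 hwC
  obtain ⟨v, hv, hvy⟩ : ∃ v ∈ P, y₀ * v * y₀⁻¹ ≠ v := by
    by_contra hall
    push Not at hall
    exact hy₀C (Subgroup.mem_centralizer_iff.2 fun q hq => (mul_inv_eq_iff_eq_mul.1 (hall q hq)).symm)
  have hne : ¬ stab S w ≤ stab S v := fun hle => hvy (mem_stab_iff.1 (hle hy₀)).2
  have hjoin : stab S w ⊔ stab S v = S := by
    refine le_antisymm (sup_le inf_le_left inf_le_left) ?_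
    rw [← Subgroup.relIndex_eq_one]
    set J := stab S w ⊔ stab S v
    have h1 := Subgroup.relIndex_mul_relIndex (stab S v) J S le_sup_right
      (sup_le inf_le_left inf_le_left)
    have h2 : (stab S v).relIndex J ≠ 1 := fun e =>
      hne (le_sup_left.trans (Subgroup.relIndex_eq_one.1 e))
    have h3 := hsub v hv
    rcases h.stab_cases hv with e | e | e
    · rw [e] at h1; exact Nat.eq_one_of_mul_eq_one_left h1
    · rw [e] at h1
      have : (stab S v).relIndex J ∣ 3 := Dvd.intro _ h1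
      rcases (Nat.dvd_prime Nat.prime_three).1 this with e' | e'
      · exact absurd e' h2
      · rw [e'] at h1; omega
    · exact absurd e (hcon v hv)
  -- an element fixing the product fixes both factors
  have hkey : ∀ y ∈ stab S (w * v), y ∈ stab S w ∧ y ∈ stab S v := by
    intro y hy
    obtain ⟨hyS, hyf⟩ := mem_stab_iff.1 hy
    obtain ⟨a, ha⟩ : ∃ a, a = y * w * y⁻¹ := ⟨_, rfl⟩
    obtain ⟨b, hb⟩ : ∃ b, b = y * v * y⁻¹ := ⟨_, rfl⟩
    have hyf' : a * b = w * v := by rw [ha, hb, ← hyf]; group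
    have hδ : a * w⁻¹ = v * b⁻¹ := by
      have haP : a ∈ P := ha ▸ h.conj_mem hyS hw
      have hbP : b ∈ P := hb ▸ h.conj_mem hyS hv
      calc a * w⁻¹ = a * b * (b⁻¹ * w⁻¹) := by group
        _ = w * v * (b⁻¹ * w⁻¹) := by rw [hyf']
        _ = w * (v * b⁻¹ * w⁻¹) := by group
        _ = v * b⁻¹ := by rw [h.comm (v * b⁻¹) (mul_mem hv (inv_mem hbP)) w⁻¹ (inv_mem hw)]; group
    have hfw : ∀ z ∈ stab S w, z * (a * w⁻¹) * z⁻¹ = a * w⁻¹ := fun z hz => by
      obtain ⟨hzS, hzw⟩ := mem_stab_iff.1 hz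
      calc z * (a * w⁻¹) * z⁻¹ = (z * (y * w * y⁻¹) * z⁻¹) * (z * w * z⁻¹)⁻¹ := by rw [ha]; group
        _ = a * w⁻¹ := by rw [h.conj_comm hzS hyS hw, hzw, ha]
    have hfv : ∀ z ∈ stab S v, z * (v * b⁻¹) * z⁻¹ = v * b⁻¹ := fun z hz => by
      obtain ⟨hzS, hzv⟩ := mem_stab_iff.1 hz
      calc z * (v * b⁻¹) * z⁻¹ = (z * v * z⁻¹) * (z * (y * v * y⁻¹) * z⁻¹)⁻¹ := by rw [hb]; group
        _ = v * b⁻¹ := by rw [h.conj_comm hzS hyS hv, hzv, hb]
    have hle : S ≤ Subgroup.centralizer ({a * w⁻¹} : Set G) := by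
      rw [← hjoin]
      refine sup_le (fun z hz => ?_) (fun z hz => ?_) <;>
        rw [Subgroup.mem_centralizer_singleton_iff]
      · exact mul_inv_eq_iff_eq_mul.1 (hfw z hz)
      · exact mul_inv_eq_iff_eq_mul.1 (hδ ▸ hfv z hz)
    have hyw : a = w := by
      rw [ha]
      refine h.eq_of_fixed hyS hw fun z hz => ?_
      rw [← ha]
      exact mul_inv_eq_iff_eq_mul.2 (Subgroup.mem_centralizer_singleton_iff.1 (hle hz))
    refine ⟨mem_stab_iff.2 ⟨hyS, ha ▸ hyw⟩, mem_stab_iff.2 ⟨hyS, ?_⟩⟩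
    rw [hyw] at hyf'
    exact hb ▸ mul_left_cancel hyf'
  -- so its stabilizer is small
  have hwv := hsub _ (mul_mem hw hv)
  have hle : stab S (w * v) ≤ stab S w ⊓ stab S v := fun y hy => hkey y hy
  have h3 : stab S w ⊓ stab S v ≠ stab S w := fun e => hne (e ▸ inf_le_right)
  have h4 := Subgroup.relIndex_mul_relIndex (stab S w ⊓ stab S v) (stab S w) S inf_le_left inf_le_left
  have h5 : (stab S w ⊓ stab S v).relIndex (stab S w) ≠ 1 := fun e =>
    h3 (le_antisymm inf_le_left (Subgroup.relIndex_eq_one.1 e))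
  have h6 := Subgroup.relIndex_mul_relIndex (stab S (w * v)) (stab S w ⊓ stab S v) S hle
    (inf_le_left.trans inf_le_left)
  have h2 := Subgroup.relIndex_mul_relIndex _ _ S
    (le_inf (h.centralizer_le_stab hw) (h.centralizer_le_stab hv))
    (inf_le_left.trans inf_le_left : stab S w ⊓ stab S v ≤ S)
  rw [h.idx] at h2
  rcases h.stab_cases hw with e | e | e
  · exact hwS (Subgroup.relIndex_eq_one.1 e)
  · rw [e] at h4
    have : (stab S w ⊓ stab S v).relIndex S ∣ 3 ^ 2 := Dvd.intro_left _ h2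
    obtain ⟨i, hi, hie⟩ := (Nat.dvd_prime_pow Nat.prime_three).1 this
    rw [hie] at h4 h6
    interval_cases i
    · simp at h4
    · exact h5 (mul_left_cancel₀ (three_ne_zero) (by rw [mul_comm] at h4; simpa using h4))
    · have : 9 ≤ (stab S (w * v)).relIndex S := by
        rw [← h6]; exact Nat.le_mul_of_pos_left _ (Nat.pos_of_ne_zero Subgroup.index_ne_zero_of_finite)
      omega
  · exact hcon w hw e

/-- **The orbits.** One regular orbit, and outside it orbits of length three whose union with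
the identity is the subgroup fixed by the stabilizer. -/
theorem Nine.orbits (h : Nine P S) :
    ∃ x ∈ P, stab S x = Subgroup.centralizer (P : Set G) ∧
      ∀ u ∈ P, u ≠ 1 → u ∉ orb S x → (stab S u).relIndex S = 3 ∧ Nat.card (fix P S u) = 4 ∧
        (fix P S u : Set G) = insert 1 (orb S u) := by
  classical
  obtain ⟨x, hx, hxs⟩ := h.exists_regular
  have hO : (orb S x).ncard = 9 := by rw [ncard_orb, hxs, h.idx]
  have h1O : ∀ {w : G}, stab S w = Subgroup.centralizer (P : Set G) → (1 : G) ∉ orb S w := by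
    intro w hws hm
    obtain ⟨y, hy⟩ := hm
    simp only at hy
    have hw1 : w = 1 := by
      calc w = (y : G)⁻¹ * ((y : G) * w * (y : G)⁻¹) * y := by group
        _ = 1 := by rw [hy]; group
    have : S ≤ stab S w := fun z hz => mem_stab_iff.2 ⟨hz, by rw [hw1]; group⟩
    rw [hws] at this
    have h1 := Subgroup.relIndex_eq_one.2 this
    rw [h.idx] at h1
    omega
  have htwo : ∀ {w : G}, w ∈ P → stab S w = Subgroup.centralizer (P : Set G) → w ∈ orb S x := by
    intro w hw hws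
    by_contra hwO
    have hsub : orb S x ∪ orb S w ⊆ (P : Set G) :=
      Set.union_subset (orb_subset h.norm hx) (orb_subset h.norm hw)
    have := Set.ncard_le_ncard hsub (Set.toFinite _)
    rw [Set.ncard_union_eq (disjoint_orb hwO), hO, ncard_orb, hws, h.idx, ← Nat.card_coe_set_eq,
      show Nat.card (P : Set G) = Nat.card P from rfl, h.card] at this
    omega
  have hnofix : ∀ u ∈ P, S ≤ stab S u → u = 1 := by
    intro u hu huS
    have hux : stab S (u * x) = Subgroup.centralizer (P : Set G) := by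
      refine le_antisymm (fun y hy => ?_) (h.centralizer_le_stab (mul_mem hu hx))
      obtain ⟨hyS, hy'⟩ := mem_stab_iff.1 hy
      rw [← hxs]
      refine mem_stab_iff.2 ⟨hyS, mul_left_cancel (a := u) ?_⟩
      conv_rhs => rw [← hy']
      calc u * (y * x * y⁻¹) = y * u * y⁻¹ * (y * x * y⁻¹) := by rw [(mem_stab_iff.1 (huS hyS)).2]
        _ = y * (u * x) * y⁻¹ := by group
    obtain ⟨y, hy⟩ := htwo (mul_mem hu hx) hux
    simp only at hy
    have := h.eq_of_fixed y.2 hx fun z hz => by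
      rw [show (y : G) * x * (y : G)⁻¹ * x⁻¹ = u by rw [hy]; group]
      exact (mem_stab_iff.1 (huS hz)).2
    rw [this] at hy
    exact mul_eq_right.1 hy.symm
  refine ⟨x, hx, hxs, fun u hu hu1 huO => ?_⟩
  have h3 : (stab S u).relIndex S = 3 := by
    rcases h.stab_cases hu with e | e | e
    · exact absurd (hnofix u hu (Subgroup.relIndex_eq_one.1 e)) hu1
    · exact e
    · exact absurd (htwo hu e) huO
  have hsub : insert 1 (orb S u) ⊆ (fix P S u : Set G) := by
    refine Set.insert_subset (one_mem _) ?_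
    rintro _ ⟨z, rfl⟩
    exact h.conj_fix z.2 (mem_fix_iff.2 ⟨hu, fun y hy => (mem_stab_iff.1 hy).2⟩)
  have h1u : (1 : G) ∉ orb S u := fun hm => by
    obtain ⟨y, hy⟩ := hm
    simp only at hy
    apply hu1
    calc u = (y : G)⁻¹ * ((y : G) * u * (y : G)⁻¹) * y := by group
      _ = 1 := by rw [hy]; group
  have hc4 : (insert 1 (orb S u)).ncard = 4 := by
    rw [Set.ncard_insert_of_notMem h1u, ncard_orb, h3]
  have hdisj : Disjoint (fix P S u : Set G) (orb S x) := Set.disjoint_left.2 fun v hv hvO => by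
    obtain ⟨y, rfl⟩ := hvO
    have hsu : stab S u ≤ stab S x := fun z hz => by
      have hzS := (mem_stab_iff.1 hz).1
      refine mem_stab_iff.2 ⟨hzS, ?_⟩
      have h1 := (mem_fix_iff.1 hv).2 z hz
      dsimp only at h1
      rw [h.conj_comm hzS y.2 hx] at h1
      exact mul_left_cancel (mul_right_cancel h1)
    rw [hxs] at hsu
    rw [le_antisymm hsu (h.centralizer_le_stab hu), h.idx] at h3
    omega
  have hle := Set.ncard_le_ncard (Set.union_subset (fun v hv => (mem_fix_iff.1 hv).1)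
    (orb_subset h.norm hx) : (fix P S u : Set G) ∪ orb S x ⊆ (P : Set G)) (Set.toFinite _)
  have hge := Set.ncard_le_ncard hsub (Set.toFinite _)
  rw [Set.ncard_union_eq hdisj, hO, ← Nat.card_coe_set_eq, ← Nat.card_coe_set_eq,
    show Nat.card (P : Set G) = Nat.card P from rfl, h.card] at hle
  rw [hc4, ← Nat.card_coe_set_eq] at hge
  have hdvd : Nat.card (fix P S u) ∣ 2 ^ 4 := by
    rw [show 2 ^ 4 = Nat.card P by rw [h.card]; norm_num]
    exact Subgroup.card_dvd_of_le inf_le_left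
  obtain ⟨i, hi, hie⟩ := (Nat.dvd_prime_pow Nat.prime_two).1 hdvd
  have hF4 : Nat.card (fix P S u) = 4 := by
    rw [show Nat.card ((fix P S u : Subgroup G) : Set G) = Nat.card (fix P S u) from rfl] at hge hle
    interval_cases i <;> omega
  refine ⟨h3, hF4, (Set.eq_of_subset_of_ncard_le hsub ?_ (Set.toFinite _)).symm⟩
  rw [hc4, ← Nat.card_coe_set_eq]
  exact hF4.le

end CfsgLib.BlockSixteen
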