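import Cfsg.Agent.Lib.BlockSixteen.Local
import Cfsg.Agent.Lib.BlockTwist.GenChar
import Cfsg.Agent.Lib.Blocks.Pairs.Principal

/-!
# The principal 2-block with defect group of order sixteen and inertial index nine
-/

set_option autoImplicit false
set_option maxHeartbeats 1000000
set_option synthInstance.maxHeartbeats 400000

open Cfsg CfsgLib.Blocks CfsgLib.Blocks.Pairs CfsgLib.BlockReg CfsgLib.BlockRank
open CfsgLib.BlockRank.Watanabe
open scoped Classical ComplexConjugate

namespace CfsgLib.BlockSixteen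

universe u

variable {G : Type u} [Group G] [Fintype G]

/-- Four times the indicator of the complement of a subgroup of order four in an abelian group of
order sixteen is a generalized character. -/
theorem isGeneralizedCharacter_four {P F : Subgroup G} (hab : ∀ x ∈ P, ∀ y ∈ P, x * y = y * x)
    (hFP : F ≤ P) (hP : Nat.card P = 16) (hF : Nat.card F = 4) :
    IsGeneralizedCharacter P fun u : P => if (u : G) ∈ F then (0 : ℂ) else 4 := by
  refine BlockTwist.isGeneralizedCharacter_of_integral (fun x y => ?_) fun χ => ?_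
  · have h : y * x * y⁻¹ = x :=
      mul_inv_eq_iff_eq_mul.2 (Subtype.ext (hab _ y.2 _ x.2))
    simp only [h]
  obtain ⟨z₁, hz₁⟩ := BlockTwist.exists_int_classInner
    (θ := fun _ : P => (1 : ℂ))
    (CfsgLib.Char.IsIrrCharacter.isGeneralizedCharacter
      (CfsgLib.Char.principalIrr : IrrCharacter P).2)
    (CfsgLib.Char.IsIrrCharacter.isCharacter χ.2)
  obtain ⟨z₂, hz₂⟩ := BlockTwist.exists_int_classInner
    (θ := fun _ : F.subgroupOf P => (1 : ℂ))
    (CfsgLib.Char.IsIrrCharacter.isGeneralizedCharacter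
      (CfsgLib.Char.principalIrr : IrrCharacter (F.subgroupOf P)).2)
    (CfsgLib.Char.IsCharacter.restrict (CfsgLib.Char.IsIrrCharacter.isCharacter χ.2)
      (F.subgroupOf P))
  refine ⟨4 * z₁ - z₂, ?_⟩
  push_cast
  rw [← hz₁, ← hz₂, classInner, classInner, classInner,
    Nat.card_congr (Subgroup.subgroupOfEquivOfLe hFP).toEquiv, hF, hP]
  have hsum : ∑ g : F.subgroupOf P, conj ((χ : P → ℂ) g) =
      ∑ u : P, if (u : G) ∈ F then conj ((χ : P → ℂ) u) else 0 := by
    rw [← Finset.sum_filter]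
    exact (Finset.sum_subtype ((Finset.univ : Finset P).filter fun u : P => (u : G) ∈ F)
      (p := fun u : P => u ∈ F.subgroupOf P) (fun u => by simp [Subgroup.mem_subgroupOf])
      (fun u : P => conj ((χ : P → ℂ) u))).symm
  simp only [one_mul]
  rw [hsum, Finset.mul_sum, Finset.mul_sum, Finset.mul_sum, Finset.mul_sum,
    ← Finset.sum_sub_distrib]
  refine Finset.sum_congr rfl fun u _ => ?_
  split_ifs <;> push_cast <;> ring

variable [Fact (Nat.Prime 2)] {M : Ideal AlgInt}

/-- **The invariants of the principal block.** -/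
theorem principal_invariants (hM : IsPModular 2 M) (P : Sylow 2 G) (hcard : Nat.card P = 16)
    (hel : ∀ x ∈ (P : Subgroup G), x * x = 1)
    (he : (Subgroup.centralizer ((P : Subgroup G) : Set G)).relIndex
      (Subgroup.normalizer ((P : Subgroup G) : Set G)) = 9) :
    Nat.card (principalBlock M G) = 16 ∧ blockRank 2 (principalBlock M G) = 9 := by
  haveI := hM.2.1
  haveI := charP_resField (M := M) hM.1 hM.2.2
  set Q : Subgroup G := (P : Subgroup G) with hQ
  set B := principalBlock M G with hBdef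
  have hB : IsPBlock M B := isPBlock_principalBlock
  have hab : ∀ x ∈ Q, ∀ y ∈ Q, x * y = y * x := fun x hx y hy => by
    have hinv : ∀ z ∈ Q, z⁻¹ = z := fun z hz => inv_eq_of_mul_eq_one_right (hel z hz)
    rw [← hinv _ (mul_mem hx hy), mul_inv_rev, hinv x hx, hinv y hy]
  obtain ⟨e, ⟨hblk, haug⟩, huniq⟩ :=
    existsUnique_principal (F := ResField M) (Subgroup.centralizer (Q : Set G))
  have hpair : IsPair 2 Q e := ⟨P.isPGroup', hblk⟩
  have hB1 : aug (ebar hB) = 1 := aug_ebar_principal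
  have hP : PairOf 2 (ebar hB) Q e :=
    (pairOf_principal_iff (isBlockIdem_ebar hB) hB1 hpair).2 haug
  have hmax : MaxR 2 (ebar hB) Q := (maxR_principal_iff (isBlockIdem_ebar hB) hB1 Q).2 ⟨P, rfl⟩
  have hno : NoExt 2 Q e := hmax.noExt hP
  have hstab : pairStab Q e = Subgroup.normalizer (Q : Set G) :=
    le_antisymm (fun y hy => hy.1) fun y hy =>
      ⟨hy, huniq _ ⟨hblk.conj_of_normalizer (normalizer_le_normalizer_centralizer Q hy),
        by rw [aug_conjA, haug]⟩⟩
  set S := pairStab Q e with hS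
  have h9 : Nine Q S :=
    { comm := hab
      exp := hel
      card := hcard
      norm := le_of_eq hstab
      cent := hstab ▸ Subgroup.centralizer_le_normalizer _
      idx := by rw [hstab]; exact he }
  obtain ⟨x, hx, hxs, horb⟩ := h9.orbits
  have hd : blockDefect 2 B = 4 := by
    have h := card_defectGroup hM hB ((isDefectGroup_iff_maxR hM hB).2 hmax)
    rw [hcard, show (16 : ℕ) = 2 ^ 4 by norm_num] at h
    exact (Nat.pow_right_injective le_rfl h).symm
  obtain ⟨T, φ, hT⟩ := exists_sectionsData hM hB hP hno hab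
  obtain ⟨N, hN⟩ := exists_mat hM hd hel hT
  -- the four subsections
  obtain ⟨s₀, hs₀, y₀, -, hy₀⟩ := hT.surj 1 (one_mem Q)
  have hφ₀ : φ s₀ = 1 := by
    calc φ s₀ = y₀⁻¹ * (y₀ * φ s₀ * y₀⁻¹) * y₀ := by group
      _ = 1 := by rw [hy₀]; group
  obtain ⟨sx, hsx, yx, hyx, hφx⟩ := hT.surj x hx
  have hxorb : φ sx ∈ orb S x :=
    orb_symm (S := S) ⟨⟨yx, hyx⟩, hφx⟩
  have hidx : (stab S (φ sx)).relIndex S = 9 := by
    have h : orb S (φ sx) = orb S x := Set.Subset.antisymm (fun w hw => orb_trans hxorb hw)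
      fun w hw => orb_trans (orb_symm hxorb) hw
    rw [← ncard_orb, h, ncard_orb, hxs, h9.idx]
  have hidx₀ : (stab S (φ s₀)).relIndex S = 1 :=
    Subgroup.relIndex_eq_one.2 fun y hy => mem_stab_iff.2 ⟨hy, by rw [hφ₀]; group⟩
  have hne₀ : s₀ ≠ sx := fun e' => by rw [e', hidx] at hidx₀; norm_num at hidx₀
  have hother : ∀ s ∈ (T.erase s₀).erase sx, φ s ≠ 1 ∧ φ s ∉ orb S x := by
    intro s hs
    obtain ⟨hne, hs'⟩ := Finset.mem_erase.1 hs
    obtain ⟨hne', hsT⟩ := Finset.mem_erase.1 hs'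
    refine ⟨fun h1 => hne' (hT.inj s hsT s₀ hs₀ 1 (one_mem _) (by rw [h1, hφ₀]; group)),
      fun hm => hne ?_⟩
    obtain ⟨y, hy⟩ := orb_trans (orb_symm hxorb) hm
    exact (hT.inj sx hsx s hsT y y.2 hy).symm
  have hsum := sum_orb (S := S) (P := Q) T φ h9.norm hT.mem hT.surj hT.inj
  have hsxE : sx ∈ T.erase s₀ := Finset.mem_erase.2 ⟨hne₀.symm, hsx⟩
  rw [← Finset.add_sum_erase _ _ hs₀, ← Finset.add_sum_erase _ _ hsxE, hidx₀, hidx,
    Finset.sum_congr rfl fun s hs => (horb (φ s) (hT.mem s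
      (Finset.mem_of_mem_erase (Finset.mem_of_mem_erase hs))) (hother s hs).1 (hother s hs).2).1,
    Finset.sum_const, smul_eq_mul, h9.card] at hsum
  obtain ⟨sa, sb, hab', hrest⟩ := Finset.card_eq_two.1
    (show ((T.erase s₀).erase sx).card = 2 by omega)
  have ha₁ : sa ∈ (T.erase s₀).erase sx := by rw [hrest]; simp
  have hb₁ : sb ∈ (T.erase s₀).erase sx := by rw [hrest]; simp
  have hsa : sa ∈ T := Finset.mem_of_mem_erase (Finset.mem_of_mem_erase ha₁)
  have hsb : sb ∈ T := Finset.mem_of_mem_erase (Finset.mem_of_mem_erase hb₁)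
  have hax : sa ≠ sx := Finset.ne_of_mem_erase ha₁
  have hbx : sb ≠ sx := Finset.ne_of_mem_erase hb₁
  have ha₀ : sa ≠ s₀ := Finset.ne_of_mem_erase (Finset.mem_of_mem_erase ha₁)
  have hb₀ : sb ≠ s₀ := Finset.ne_of_mem_erase (Finset.mem_of_mem_erase hb₁)
  have hT4 : ∀ (f : SecIdx G → ℤ), ∑ s ∈ T, f s = f s₀ + f sx + f sa + f sb := fun f => by
    rw [← Finset.add_sum_erase _ _ hs₀, ← Finset.add_sum_erase _ _ hsxE, hrest,
      Finset.sum_pair hab']
    ring
  have hOa := horb (φ sa) (hT.mem sa hsa) (hother sa ha₁).1 (hother sa ha₁).2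
  have hOb := horb (φ sb) (hT.mem sb hsb) (hother sb hb₁).1 (hother sb hb₁).2
  -- the ranks
  have hrx : blockRank 2 sx.2 = 1 := by
    rw [hT.rank_eq hP.pair hsx]
    refine lr_eq_one hM hP hno hab (hT.mem sx hsx) fun y hy hyu => ?_
    rcases h9.stab_cases (hT.mem sx hsx) with e' | e' | e'
    · rw [e'] at hidx; norm_num at hidx
    · rw [e'] at hidx; norm_num at hidx
    · exact e' ▸ mem_stab_iff.2 ⟨hy, hyu⟩
  have hra : blockRank 2 sa.2 = 3 := by
    rw [hT.rank_eq hP.pair hsa]
    exact lr_three hM hP hno h9 (hT.mem sa hsa) hOa.1 hOa.2.1 haug hB1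
  have hrb : blockRank 2 sb.2 = 3 := by
    rw [hT.rank_eq hP.pair hsb]
    exact lr_three hM hP hno h9 (hT.mem sb hsb) hOb.1 hOb.2.1 haug hB1
  have hr₀ : blockRank 2 s₀.2 = blockRank 2 B := by
    rw [hT.rank_eq hP.pair hs₀, hφ₀, Subgroup.zpowers_one_eq_bot, lr_bot hB hP]
  have hk : Nat.card B = blockRank 2 B + 7 := by
    rw [hT.card, ← Finset.add_sum_erase _ _ hs₀, ← Finset.add_sum_erase _ _ hsxE, hrest,
      Finset.sum_pair hab', hrx, hra, hrb, hr₀]
    rfl
  -- the congruences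
  have hcong : ∀ a b, a ∈ (T.erase s₀).erase sx → b ∈ (T.erase s₀).erase sx → a ≠ b →
      (∀ f : SecIdx G → ℤ, ∑ s ∈ T, f s = f s₀ + f sx + f a + f b) →
      ∀ i j, 4 ∣ N a i j + N sx i j := by
    intro a b ha hb hne hT4' i j
    have haT : a ∈ T := Finset.mem_of_mem_erase (Finset.mem_of_mem_erase ha)
    have hbT : b ∈ T := Finset.mem_of_mem_erase (Finset.mem_of_mem_erase hb)
    obtain ⟨-, hF4, hFset⟩ := horb (φ b) (hT.mem b hbT) (hother b hb).1 (hother b hb).2
    have hFQ : fix Q S (φ b) ≤ Q := inf_le_left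
    let f : G → ℤ := fun g => if g ∈ fix Q S (φ b) then 0 else 4
    have hinv : ∀ y ∈ S, ∀ u ∈ Q, f (y * u * y⁻¹) = f u := by
      intro y hy u hu
      have h : y * u * y⁻¹ ∈ fix Q S (φ b) ↔ u ∈ fix Q S (φ b) := by
        refine ⟨fun h => ?_, h9.conj_fix hy⟩
        have h' := h9.conj_fix (inv_mem hy) h
        rwa [show y⁻¹ * (y * u * y⁻¹) * y⁻¹⁻¹ = u by group] at h'
      simp only [f, h]
    have hgen : IsGeneralizedCharacter Q fun u : Q => (f u : ℂ) := by
      have h := isGeneralizedCharacter_four hab hFQ hcard hF4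
      convert h using 2 with u
      simp only [f]
      split_ifs <;> norm_num
    have h16 := star_congr hM hB hP hno hab hd hT hN f hinv hgen i j
    have hf₀ : f (φ s₀) = 0 := by simp only [f, hφ₀, one_mem, if_true]
    have hfb : f (φ b) = 0 := by
      have : φ b ∈ (fix Q S (φ b) : Set G) := by
        rw [hFset]; exact Or.inr (mem_orb_self _)
      simp only [f]
      rw [if_pos (show φ b ∈ fix Q S (φ b) from this)]
    have hnot : ∀ s ∈ T, s ≠ s₀ → s ≠ b → f (φ s) = 4 := by
      intro s hs h0 hb'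
      simp only [f]
      rw [if_neg]
      intro hm
      have hm' : φ s ∈ (fix Q S (φ b) : Set G) := hm
      rw [hFset] at hm'
      rcases hm' with h1 | ⟨y, hy⟩
      · exact h0 (hT.inj s hs s₀ hs₀ 1 (one_mem _) (by rw [h1, hφ₀]; group))
      · exact hb' (hT.inj b hbT s hs y y.2 hy).symm
    rw [hT4', hf₀, hfb, hnot a haT (Finset.ne_of_mem_erase (Finset.mem_of_mem_erase ha)) hne,
      hnot sx hsx hne₀.symm (Finset.ne_of_mem_erase hb).symm] at h16
    omega
  have hdU := hcong sa sb ha₁ hb₁ hab' hT4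
  have hdV := hcong sb sa hb₁ ha₁ hab'.symm fun f => by rw [hT4]; ring
  obtain ⟨o, ho⟩ := hN.odd sx hsx
  have hmain := card_eq_sixteen_or_le (hN.symm sa hsa) (hN.symm sb hsb) (hN.symm sx hsx)
    (hN.sq sa hsa) (hN.sq sb hsb) (hN.sq sx hsx) (hN.orth sa hsa sb hsb hab')
    (hN.orth sa hsa sx hsx hax) (hN.orth sb hsb sx hsx hbx)
    (by rw [hN.trace sa hsa, hra]; norm_num) (by rw [hN.trace sb hsb, hrb]; norm_num)
    (by rw [hN.trace sx hsx, hrx]; norm_num) (hN.pos sa hsa) (hN.pos sb hsb) (hN.pos sx hsx)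
    (fun i => by
      have h := hN.total i
      rw [hT4] at h
      linarith [hN.pos s₀ hs₀ i]) hdU hdV ho
  rw [← Nat.card_eq_fintype_card, hk] at hmain
  rcases hmain with h16 | h8
  · exact ⟨hk.trans h16, by omega⟩
  exfalso
  have h1 := CfsgLib.BlockRank.blockRank_pos (p := 2) (by norm_num) (IsPBlock.nonempty hB)
  have hl : blockRank 2 B = 1 := by omega
  have hc := Cfsg.Agent.S4646.complement_of_blockRank_eq_one hM (hBdef ▸ hl)
  have hall : S ≤ Subgroup.centralizer (Q : Set G) := by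
    intro y hy
    haveI := h9.normal
    have h := Subgroup.pow_index_mem ((Subgroup.centralizer (Q : Set G)).subgroupOf S)
      (⟨y, hy⟩ : S)
    rw [show ((Subgroup.centralizer (Q : Set G)).subgroupOf S).index = 9 from h9.idx] at h
    exact mem_centralizer_of_complement hel hc (h9.norm hy)
      (by simpa [Subgroup.mem_subgroupOf] using h)
  have h := Subgroup.relIndex_eq_one.2 hall
  rw [h9.idx] at h
  norm_num at h

end CfsgLib.BlockSixteen
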