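import Mathlib.Algebra.BigOperators.Group.Finset.Basic
import Mathlib.Algebra.Order.BigOperators.Group.Finset
import Mathlib.Algebra.Order.BigOperators.Ring.Finset
import Mathlib.Data.Fintype.BigOperators
import Mathlib.Tactic.Linarith
import Mathlib.Tactic.IntervalCases
import Mathlib.Tactic.Ring
import Mathlib.Tactic.LinearCombination
import Mathlib.RingTheory.Int.Basic

/-!
# Integral idempotent matrices of a block with an elementary abelian defect group of order sixteen
-/

set_option autoImplicit false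

namespace CfsgLib.BlockSixteen

open Finset
open scoped Classical

variable {ι : Type*} [Fintype ι]

/-- A symmetric integral matrix of rank one with trace and eigenvalue sixteen and an odd diagonal
entry is the square of an integral column. -/
theorem exists_column {X : ι → ι → ℤ} (hsym : ∀ i j, X i j = X j i)
    (hsq : ∀ i k, ∑ j, X i j * X j k = 16 * X i k) (htr : ∑ i, X i i = 16)
    (hpos : ∀ i, 0 < X i i) {o : ι} (ho : Odd (X o o)) :
    ∃ d : ι → ℤ, (∀ i j, X i j = d i * d j) ∧ (∀ i, d i ≠ 0) ∧ ∑ i, d i ^ 2 = 16 := by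
  have hrow : ∀ i, ∑ j, X i j ^ 2 = 16 * X i i := fun i => by
    rw [← hsq i i]
    exact Finset.sum_congr rfl fun j _ => by rw [sq, hsym j i]
  have hnn : ∀ i j, 0 ≤ X i i * X j j - X i j ^ 2 := by
    intro i j
    have key : 0 ≤ ∑ k, (X j j * X i k - X i j * X j k) ^ 2 :=
      Finset.sum_nonneg fun k _ => sq_nonneg _
    have e : ∑ k, (X j j * X i k - X i j * X j k) ^ 2 =
        16 * X j j * (X i i * X j j - X i j ^ 2) := by
      have e1 : ∑ k, (X j j * X i k - X i j * X j k) ^ 2 = X j j ^ 2 * ∑ k, X i k ^ 2 -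
          2 * X j j * X i j * (∑ k, X i k * X k j) + X i j ^ 2 * ∑ k, X j k ^ 2 := by
        rw [Finset.mul_sum, Finset.mul_sum, Finset.mul_sum, ← Finset.sum_sub_distrib,
          ← Finset.sum_add_distrib]
        exact Finset.sum_congr rfl fun k _ => by rw [hsym k j]; ring
      rw [e1, hrow, hrow, hsq]
      ring
    rw [e] at key
    by_contra h
    push Not at h
    have := hpos j
    nlinarith [mul_pos this (show 0 < -(X i i * X j j - X i j ^ 2) by linarith)]
  have htot : ∑ i, ∑ j, (X i i * X j j - X i j ^ 2) = 0 := by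
    simp only [Finset.sum_sub_distrib]
    rw [← Finset.sum_mul_sum, htr, Finset.sum_congr rfl fun i _ => hrow i,
      ← Finset.mul_sum, htr]
    norm_num
  have hdet : ∀ i j, X i i * X j j = X i j ^ 2 := fun i j => sub_eq_zero.1
    ((Finset.sum_eq_zero_iff_of_nonneg fun j _ => hnn i j).1
      ((Finset.sum_eq_zero_iff_of_nonneg fun i _ => Finset.sum_nonneg fun j _ => hnn i j).1 htot i
        (Finset.mem_univ _)) j (Finset.mem_univ _))
  have hrank : ∀ i k, X o o * X i k = X i o * X o k := by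
    intro i k
    have h0 : ∑ k, (X o o * X i k - X i o * X o k) ^ 2 = 0 := by
      have e1 : ∑ k, (X o o * X i k - X i o * X o k) ^ 2 = X o o ^ 2 * ∑ k, X i k ^ 2 -
          2 * X o o * X i o * (∑ k, X i k * X k o) + X i o ^ 2 * ∑ k, X o k ^ 2 := by
        rw [Finset.mul_sum, Finset.mul_sum, Finset.mul_sum, ← Finset.sum_sub_distrib,
          ← Finset.sum_add_distrib]
        exact Finset.sum_congr rfl fun k _ => by rw [hsym k o]; ring
      rw [e1, hrow, hrow, hsq]
      linear_combination (16 * X o o) * hdet i o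
    exact sub_eq_zero.1 (pow_eq_zero_iff (two_ne_zero) |>.1
      ((Finset.sum_eq_zero_iff_of_nonneg fun k _ => sq_nonneg _).1 h0 k (Finset.mem_univ _)))
  have hle : X o o ≤ 16 := htr ▸
    Finset.single_le_sum (f := fun i => X i i) (fun i _ => (hpos i).le) (Finset.mem_univ o)
  -- a prime dividing the pivot once would divide the trace
  have hbad : ∀ q : ℤ, Prime q → q ∣ X o o → ¬ q * q ∣ X o o → q ∣ 16 := by
    intro q hq hqc hqq
    rw [← htr]
    refine Finset.dvd_sum fun i _ => ?_
    have h2 : q ∣ X i o := hq.dvd_of_dvd_pow (n := 2) (by rw [← hdet i o]; exact dvd_mul_of_dvd_right hqc _)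
    obtain ⟨a, ha⟩ := h2
    obtain ⟨b, hb⟩ := hqc
    have h3 : X i i * b = q * a ^ 2 := by
      have := hdet i o
      rw [ha, hb] at this
      exact mul_left_cancel₀ hq.ne_zero (by linear_combination this)
    refine (hq.dvd_or_dvd (Dvd.intro _ h3.symm)).resolve_right fun h => hqq ?_
    rw [hb]
    exact mul_dvd_mul_left q h
  have hc : X o o = 1 ∨ X o o = 9 := by
    have hp3 : Prime (3 : ℤ) := Int.prime_three
    have hp5 : Prime (5 : ℤ) := Int.prime_iff_natAbs_prime.2 (by decide)
    have hp7 : Prime (7 : ℤ) := Int.prime_iff_natAbs_prime.2 (by decide)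
    have hp11 : Prime (11 : ℤ) := Int.prime_iff_natAbs_prime.2 (by decide)
    have hp13 : Prime (13 : ℤ) := Int.prime_iff_natAbs_prime.2 (by decide)
    have h3 := hbad 3 hp3
    have h5 := hbad 5 hp5
    have h7 := hbad 7 hp7
    have h11 := hbad 11 hp11
    have h13 := hbad 13 hp13
    have hp := hpos o
    obtain ⟨m, hm⟩ := ho
    interval_cases hval : X o o <;> first | omega | norm_num at *
  obtain ⟨r, hr, hrdvd⟩ : ∃ r : ℤ, X o o = r ^ 2 ∧ ∀ i, r ∣ X i o := by
    rcases hc with h | h
    · exact ⟨1, by rw [h, one_pow], fun i => one_dvd _⟩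
    · refine ⟨3, by rw [h]; norm_num, fun i => ?_⟩
      refine Int.prime_three.dvd_of_dvd_pow (n := 2) ?_
      rw [← hdet i o, h]
      exact dvd_mul_of_dvd_right (by norm_num) _
  have hr0 : r ≠ 0 := fun h => (hpos o).ne' (by rw [hr, h]; norm_num)
  choose d hd using hrdvd
  have hX : ∀ i j, X i j = d i * d j := fun i j => by
    have := hrank i j
    rw [hd i, hsym o j, hd j, hr] at this
    exact mul_left_cancel₀ (pow_ne_zero 2 hr0) (by linear_combination this)
  refine ⟨d, hX, fun i h => (hpos i).ne' (by rw [hX, h, zero_mul]), ?_⟩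
  rw [← htr]
  exact Finset.sum_congr rfl fun i _ => by rw [sq, hX]

theorem sq_one_or_four {d : ℤ} (h : d ≠ 0) (h8 : d ^ 2 ≤ 8) : d ^ 2 = 1 ∨ d ^ 2 = 4 := by
  have h1 : d ≤ 2 := by nlinarith
  have h2 : -2 ≤ d := by nlinarith
  interval_cases d <;> simp_all

theorem cases_of_sq_le {a : ℤ} (h : a ^ 2 ≤ 3) : a = 0 ∨ a = 1 ∨ a = -1 := by
  have h1 : a ≤ 1 := by nlinarith
  have h2 : -1 ≤ a := by nlinarith
  interval_cases a <;> simp

theorem cases_of_sq_eq_one {a : ℤ} (h : a ^ 2 = 1) : a = 1 ∨ a = -1 := by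
  have h1 : a ≤ 1 := by nlinarith
  have h2 : -1 ≤ a := by nlinarith
  interval_cases a <;> simp_all

theorem cases_of_sq_eq_four {a : ℤ} (h : a ^ 2 = 4) : a = 2 ∨ a = -2 := by
  have h1 : a ≤ 2 := by nlinarith
  have h2 : -2 ≤ a := by nlinarith
  interval_cases a <;> simp_all

/-- Four times a projection fixing an integral column. -/
structure Four (d : ι → ℤ) (A : ι → ι → ℤ) : Prop where
  symm : ∀ i j, A i j = A j i
  sq : ∀ i k, ∑ j, A i j * A j k = 4 * A i k
  fix : ∀ i, ∑ j, A i j * d j = 4 * d i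
  trace : ∑ i, A i i = 16
  pos : ∀ i, 0 < A i i
  even : ∀ i, d i ^ 2 = 4 → A i i = 2

variable {d : ι → ℤ} {A : ι → ι → ℤ}

theorem Four.row (h : Four d A) (i : ι) :
    ∑ j ∈ univ.erase i, A i j ^ 2 = 4 * A i i - A i i ^ 2 := by
  rw [Finset.sum_erase_eq_sub (Finset.mem_univ i), ← h.sq i i]
  congr 1
  exact Finset.sum_congr rfl fun j _ => by rw [h.symm j i]; ring

theorem Four.row_fix (h : Four d A) (i : ι) :
    ∑ j ∈ univ.erase i, A i j * d j = 4 * d i - A i i * d i := by
  rw [Finset.sum_erase_eq_sub (Finset.mem_univ i), h.fix]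

/-- The row of an even entry: one double neighbour, or four simple ones. -/
theorem Four.even_row (h : Four d A) (h14 : ∀ i, d i ^ 2 = 1 ∨ d i ^ 2 = 4) {i : ι}
    (hi : d i ^ 2 = 4) :
    (∃ j, j ≠ i ∧ d j ^ 2 = 4 ∧ A i j ^ 2 = 4 ∧ ∀ k, k ≠ i → k ≠ j → A i k = 0) ∨
    (∃ N : Finset ι, N.card = 4 ∧ i ∉ N ∧ (∀ j, j ≠ i → (j ∈ N ↔ A i j ≠ 0)) ∧
      (∀ j ∈ N, A i j ^ 2 = 1) ∧ ∑ j ∈ N, A i j * d j = 2 * d i) := by
  have hA := h.even i hi
  have h4 : ∑ j ∈ univ.erase i, A i j ^ 2 = 4 := by rw [h.row, hA]; norm_num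
  have h2 : ∑ j ∈ univ.erase i, A i j * d j = 2 * d i := by rw [h.row_fix, hA]; ring
  by_cases hbig : ∃ j ∈ univ.erase i, 4 ≤ A i j ^ 2
  · left
    obtain ⟨j, hj, hj4⟩ := hbig
    rw [← Finset.add_sum_erase _ _ hj] at h4 h2
    have hn : 0 ≤ ∑ k ∈ (univ.erase i).erase j, A i k ^ 2 := Finset.sum_nonneg fun k _ => sq_nonneg _
    have hz : ∀ k ∈ (univ.erase i).erase j, A i k = 0 := fun k hk => pow_eq_zero_iff two_ne_zero |>.1
      ((Finset.sum_eq_zero_iff_of_nonneg fun k _ => sq_nonneg _).1 (by linarith) k hk)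
    rw [Finset.sum_eq_zero (fun k hk => by rw [hz k hk, zero_mul]), add_zero] at h2
    have hsq : A i j ^ 2 = 4 := by linarith
    refine ⟨j, (Finset.mem_erase.1 hj).1, ?_, hsq, fun k hk hkj => hz k
      (Finset.mem_erase.2 ⟨hkj, Finset.mem_erase.2 ⟨hk, Finset.mem_univ _⟩⟩)⟩
    have : (A i j * d j) ^ 2 = (2 * d i) ^ 2 := by rw [h2]
    rw [mul_pow, mul_pow, hsq, hi] at this
    linarith
  · right
    push Not at hbig
    have h01 : ∀ j ∈ univ.erase i, A i j ≠ 0 → A i j ^ 2 = 1 := fun j hj h0 => by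
      rcases cases_of_sq_le (a := A i j) (by linarith [hbig j hj]) with e | e | e
      · exact absurd e h0
      · rw [e]; norm_num
      · rw [e]; norm_num
    refine ⟨(univ.erase i).filter fun j => A i j ≠ 0, ?_, fun hm => ?_, fun j hj => ?_,
      fun j hj => h01 j (Finset.mem_filter.1 hj).1 (Finset.mem_filter.1 hj).2, ?_⟩
    · have : ∑ j ∈ (univ.erase i).filter fun j => A i j ≠ 0, A i j ^ 2 = 4 := by
        rw [Finset.sum_filter_of_ne fun j _ h0 => ?_, h4]
        exact fun e => h0 (by rw [e]; norm_num)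
      rw [Finset.sum_congr rfl fun j hj => h01 j (Finset.mem_filter.1 hj).1
        (Finset.mem_filter.1 hj).2, Finset.sum_const, nsmul_eq_mul, mul_one] at this
      exact_mod_cast this
    · exact (Finset.mem_erase.1 (Finset.mem_filter.1 hm).1).1 rfl
    · simp [hj]
    · rw [Finset.sum_filter_of_ne fun j _ h0 => ?_, h2]
      exact fun e => h0 (by rw [e, zero_mul])

/-- The four neighbours of an even entry are odd, with equal signs. -/
theorem four_odd (h14 : ∀ i, d i ^ 2 = 1 ∨ d i ^ 2 = 4) {i : ι} (hi : d i ^ 2 = 4)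
    (h2E : ((univ : Finset ι).filter fun j => d j ^ 2 = 4).card ≤ 2) {N : Finset ι}
    (hN : N.card = 4) (hiN : i ∉ N) (h1 : ∀ j ∈ N, A i j ^ 2 = 1)
    (hs : ∑ j ∈ N, A i j * d j = 2 * d i) :
    ∀ j ∈ N, d j ^ 2 = 1 ∧ 2 * (A i j * d j) = d i := by
  have hsq : ∀ j ∈ N, d j ^ 2 = 1 → A i j * d j = 1 ∨ A i j * d j = -1 := fun j hj hdj =>
    cases_of_sq_eq_one (by rw [mul_pow, h1 j hj, hdj, one_mul])
  have hodd : ∀ j ∈ N, d j ^ 2 = 1 := by
    intro j hj
    refine (h14 j).resolve_right fun hj4 => ?_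
    have hrest : ∀ k ∈ N.erase j, d k ^ 2 = 1 := by
      intro k hk
      refine (h14 k).resolve_right fun hk4 => ?_
      have hsub : ({i, j, k} : Finset ι) ⊆ univ.filter fun x => d x ^ 2 = 4 := by
        intro x hx
        simp only [Finset.mem_insert, Finset.mem_singleton] at hx
        rcases hx with rfl | rfl | rfl <;> simp [hi, hj4, hk4]
      have hcard : ({i, j, k} : Finset ι).card = 3 := Finset.card_eq_three.2 ⟨i, j, k,
        fun e => hiN (e ▸ hj), fun e => hiN (e ▸ Finset.mem_of_mem_erase hk),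
        (Finset.ne_of_mem_erase hk).symm, rfl⟩
      have := Finset.card_le_card hsub
      omega
    obtain ⟨x, y, z, hxy, hxz, hyz, he⟩ := Finset.card_eq_three.1
      (show (N.erase j).card = 3 by rw [Finset.card_erase_of_mem hj, hN])
    rw [← Finset.add_sum_erase _ _ hj, he, Finset.sum_insert (by simp [hxy, hxz]),
      Finset.sum_insert (by simp [hyz]), Finset.sum_singleton] at hs
    have hx := hsq x (Finset.mem_of_mem_erase (s := N) (a := j) (by rw [he]; simp)) (hrest x (by rw [he]; simp))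
    have hy := hsq y (Finset.mem_of_mem_erase (s := N) (a := j) (by rw [he]; simp)) (hrest y (by rw [he]; simp))
    have hz := hsq z (Finset.mem_of_mem_erase (s := N) (a := j) (by rw [he]; simp)) (hrest z (by rw [he]; simp))
    have hj' : A i j * d j = 2 ∨ A i j * d j = -2 :=
      cases_of_sq_eq_four (by rw [mul_pow, h1 j hj, hj4, one_mul])
    rcases cases_of_sq_eq_four hi with e | e <;> omega
  refine fun j hj => ⟨hodd j hj, ?_⟩
  obtain ⟨x, y, z, hxy, hxz, hyz, he⟩ := Finset.card_eq_three.1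
    (show (N.erase j).card = 3 by rw [Finset.card_erase_of_mem hj, hN])
  rw [← Finset.add_sum_erase _ _ hj, he, Finset.sum_insert (by simp [hxy, hxz]),
    Finset.sum_insert (by simp [hyz]), Finset.sum_singleton] at hs
  have hx := hsq x (Finset.mem_of_mem_erase (s := N) (a := j) (by rw [he]; simp))
    (hodd x (Finset.mem_of_mem_erase (s := N) (a := j) (by rw [he]; simp)))
  have hy := hsq y (Finset.mem_of_mem_erase (s := N) (a := j) (by rw [he]; simp))
    (hodd y (Finset.mem_of_mem_erase (s := N) (a := j) (by rw [he]; simp)))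
  have hz := hsq z (Finset.mem_of_mem_erase (s := N) (a := j) (by rw [he]; simp))
    (hodd z (Finset.mem_of_mem_erase (s := N) (a := j) (by rw [he]; simp)))
  have hj' := hsq j hj (hodd j hj)
  rcases cases_of_sq_eq_four hi with e | e <;> omega

/-- An odd neighbour of an even entry with diagonal one has a second even neighbour. -/
theorem Four.second_even (h : Four d A) (h14 : ∀ i, d i ^ 2 = 1 ∨ d i ^ 2 = 4) {i j : ι}
    (hi : d i ^ 2 = 4) (hj : d j ^ 2 = 1) (hij : A i j ≠ 0) (hjj : A j j = 1) :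
    ∃ i', i' ≠ i ∧ d i' ^ 2 = 4 ∧ A i' j ≠ 0 := by
  by_contra hcon
  push Not at hcon
  have h3 : ∑ k ∈ univ.erase j, A j k ^ 2 = 3 := by rw [h.row, hjj]; norm_num
  have hf : ∑ k ∈ univ.erase j, A j k * d k = 3 * d j := by rw [h.row_fix, hjj]; ring
  have h01 : ∀ k ∈ univ.erase j, A j k ≠ 0 → A j k ^ 2 = 1 := fun k hk h0 => by
    rcases cases_of_sq_le (a := A j k) (h3 ▸ Finset.single_le_sum
      (f := fun k => A j k ^ 2) (fun k _ => sq_nonneg _) hk) with e | e | e
    · exact absurd e h0
    · rw [e]; norm_num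
    · rw [e]; norm_num
  set N := (univ.erase j).filter fun k => A j k ≠ 0
  have hNc : N.card = 3 := by
    have h' : ∑ k ∈ N, A j k ^ 2 = 3 := by
      rw [Finset.sum_filter_of_ne fun k _ h0 => ?_, h3]
      exact fun e => h0 (by rw [e]; norm_num)
    rw [Finset.sum_congr rfl fun k hk => h01 k (Finset.mem_filter.1 hk).1
      (Finset.mem_filter.1 hk).2, Finset.sum_const, nsmul_eq_mul, mul_one] at h'
    exact_mod_cast h'
  have hsum : ∑ k ∈ N, A j k * d k = 3 * d j := by
    rw [Finset.sum_filter_of_ne fun k _ h0 => ?_, hf]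
    exact fun e => h0 (by rw [e, zero_mul])
  have hiN : i ∈ N := Finset.mem_filter.2 ⟨Finset.mem_erase.2
    ⟨fun e => by rw [e, hj] at hi; norm_num at hi, Finset.mem_univ _⟩, by rw [h.symm]; exact hij⟩
  obtain ⟨x, y, hxy, he⟩ := Finset.card_eq_two.1
    (show (N.erase i).card = 2 by rw [Finset.card_erase_of_mem hiN, hNc])
  rw [← Finset.add_sum_erase _ _ hiN, he, Finset.sum_pair hxy] at hsum
  have hval : ∀ k ∈ N.erase i, A j k * d k = 1 ∨ A j k * d k = -1 := by
    intro k hk
    have hkN := Finset.mem_filter.1 (Finset.mem_of_mem_erase hk)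
    have hdk := (h14 k).resolve_right fun h4 => hkN.2
      (by rw [h.symm]; exact hcon k (Finset.ne_of_mem_erase hk) h4)
    exact cases_of_sq_eq_one (by rw [mul_pow, h01 k hkN.1 hkN.2, hdk, one_mul])
  have hx := hval x (by rw [he]; simp)
  have hy := hval y (by rw [he]; simp)
  have hii : A j i * d i = 2 ∨ A j i * d i = -2 := cases_of_sq_eq_four (by
    rw [mul_pow, h01 i (Finset.mem_filter.1 hiN).1 (Finset.mem_filter.1 hiN).2, hi, one_mul])
  rcases cases_of_sq_eq_one hj with e | e <;> omega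

/-- The diagonal sum is large when four neighbours have diagonal at least two. -/
theorem Four.card_bound (h : Four d A) (E : Finset ι) (N : Finset ι) (hE : ∀ i ∈ E, d i ^ 2 = 4)
    (hdisj : Disjoint E N) (hN : ∀ j ∈ N, 2 ≤ A j j) :
    E.card + N.card + Fintype.card ι ≤ 16 := by
  have h1 : ∀ j ∈ (univ : Finset ι) \ (E ∪ N), 1 ≤ A j j := fun j _ => h.pos j
  have h2 := Finset.card_nsmul_le_sum _ _ _ h1
  have h3 := Finset.card_nsmul_le_sum _ _ _ hN
  have h4 : ∑ i ∈ E, A i i = 2 * (E.card : ℤ) := by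
    rw [Finset.sum_congr rfl fun i hi => h.even i (hE i hi)]; simp [mul_comm]
  have h5 := Finset.sum_sdiff (f := fun i => A i i) (Finset.subset_univ (E ∪ N))
  rw [Finset.sum_union hdisj, h.trace, h4] at h5
  have h6 : ((univ : Finset ι) \ (E ∪ N)).card + (E.card + N.card) = Fintype.card ι := by
    rw [← Finset.card_union_of_disjoint hdisj, Finset.card_sdiff_add_card_eq_card
      (Finset.subset_univ _), Finset.card_univ]
  simp only [nsmul_eq_mul] at h2 h3
  have : ((E.card + N.card + Fintype.card ι : ℕ) : ℤ) ≤ 16 := by rw [← h6]; push_cast; linarith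
  exact_mod_cast this

/-- Two even entries out of ten are joined. -/
theorem Four.joined (h : Four d A) (h14 : ∀ i, d i ^ 2 = 1 ∨ d i ^ 2 = 4) {i i' : ι} (hne : i ≠ i')
    (hE : ∀ j, d j ^ 2 = 4 ↔ j = i ∨ j = i') (hcard : Fintype.card ι = 10) :
    A i i' ^ 2 = 4 ∧ ∀ k, k ≠ i → k ≠ i' → A i k = 0 := by
  have hi := (hE i).2 (Or.inl rfl)
  have hi' := (hE i').2 (Or.inr rfl)
  have h2E : ((univ : Finset ι).filter fun j => d j ^ 2 = 4).card ≤ 2 := by
    refine (Finset.card_le_card (t := {i, i'}) fun j hj => ?_).trans Finset.card_le_two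
    simpa using (hE j).1 (Finset.mem_filter.1 hj).2
  rcases h.even_row h14 hi with ⟨j, hji, hj4, hsq, hz⟩ | ⟨N, hNc, hiN, hmem, h1, hs⟩
  · obtain rfl := ((hE j).1 hj4).resolve_left hji
    exact ⟨hsq, hz⟩
  exfalso
  have hN := four_odd h14 hi h2E hNc hiN h1 hs
  have hi'N : i' ∉ N := fun hm => by have := (hN i' hm).1; omega
  have h0 : A i i' = 0 := by
    by_contra h0
    exact hi'N ((hmem i' hne.symm).2 h0)
  rcases h.even_row h14 hi' with ⟨j, hji, hj4, hsq, -⟩ | ⟨N', hNc', hiN', hmem', h1', hs'⟩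
  · obtain rfl := ((hE j).1 hj4).resolve_right hji
    rw [h.symm, h0] at hsq
    norm_num at hsq
  have hN' := four_odd h14 hi' h2E hNc' hiN' h1' hs'
  have hi_N' : i ∉ N' := fun hm => by have := (hN' i hm).1; omega
  have horth : ∀ j ∈ N, j ∉ N' := by
    intro j hj hj'
    have hsum := h.sq i i'
    rw [h0, mul_zero] at hsum
    have hterm : ∀ k, A i k * A k i' = if k ∈ N ∧ k ∈ N' then (d i * d i') / 4 else 0 := by
      intro k
      by_cases hk : k ∈ N ∧ k ∈ N'
      · rw [if_pos hk, h.symm k i', ← (hN k hk.1).2, ← (hN' k hk.2).2]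
        rw [show 2 * (A i k * d k) * (2 * (A i' k * d k)) = 4 * (A i k * A i' k * d k ^ 2) by ring,
          (hN k hk.1).1, mul_one, Int.mul_ediv_cancel_left _ (by norm_num : (4 : ℤ) ≠ 0)]
      · rw [if_neg hk]
        rcases eq_or_ne k i with rfl | hki
        · rw [h0, mul_zero]
        rcases eq_or_ne k i' with rfl | hki'
        · rw [h0, zero_mul]
        rcases not_and_or.1 hk with hk' | hk'
        · rw [Decidable.not_not.1 fun hne' => hk' ((hmem k hki).2 hne'), zero_mul]
        · rw [h.symm k i', Decidable.not_not.1 fun hne' => hk' ((hmem' k hki').2 hne'), mul_zero]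
    rw [Finset.sum_congr rfl fun k _ => hterm k, ← Finset.sum_filter, Finset.sum_const,
      nsmul_eq_mul, mul_eq_zero] at hsum
    rcases hsum with hsum | hsum
    · have : j ∈ (univ : Finset ι).filter fun k => k ∈ N ∧ k ∈ N' := by simp [hj, hj']
      rw [Nat.cast_eq_zero, Finset.card_eq_zero] at hsum
      simp [hsum] at this
    · rcases cases_of_sq_eq_four hi with e | e <;> rcases cases_of_sq_eq_four hi' with e' | e' <;>
        rw [e, e'] at hsum <;> norm_num at hsum
  have hbig : ∀ j ∈ N ∪ N', 2 ≤ A j j := by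
    intro j hj
    by_contra hlt
    have hjj : A j j = 1 := by have := h.pos j; omega
    rcases Finset.mem_union.1 hj with hj | hj
    · obtain ⟨k, hk, hk4, hkj⟩ := h.second_even h14 hi (hN j hj).1
        ((hmem j fun e => hiN (e ▸ hj)).1 hj) hjj
      obtain rfl := ((hE k).1 hk4).resolve_left hk
      refine horth j hj ((hmem' j ?_).2 hkj)
      rintro rfl
      exact hi'N hj
    · obtain ⟨k, hk, hk4, hkj⟩ := h.second_even h14 hi' (hN' j hj).1
        ((hmem' j fun e => hiN' (e ▸ hj)).1 hj) hjj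
      obtain rfl := ((hE k).1 hk4).resolve_right hk
      refine horth j ((hmem j ?_).2 hkj) hj
      rintro rfl
      exact hi_N' hj
  have hb := h.card_bound {i, i'} (N ∪ N') (fun k hk => (hE k).2 (by simpa using hk))
    (Finset.disjoint_left.2 fun k hk hk' => by
      simp only [Finset.mem_insert, Finset.mem_singleton] at hk
      rcases Finset.mem_union.1 hk' with hk' | hk' <;> rcases hk with rfl | rfl
      exacts [hiN hk', hi'N hk', hi_N' hk', hiN' hk']) hbig
  rw [Finset.card_pair hne, Finset.card_union_of_disjoint (Finset.disjoint_left.2 horth),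
    hNc, hNc', hcard] at hb
  omega

/-- **The number of characters.** Three orthogonal projections, scaled by sixteen, with the
congruences of the star construction. -/
theorem card_eq_sixteen_or_le {U V X : ι → ι → ℤ} (hUs : ∀ i j, U i j = U j i)
    (hVs : ∀ i j, V i j = V j i) (hXs : ∀ i j, X i j = X j i)
    (hU : ∀ i k, ∑ j, U i j * U j k = 16 * U i k) (hV : ∀ i k, ∑ j, V i j * V j k = 16 * V i k)
    (hX : ∀ i k, ∑ j, X i j * X j k = 16 * X i k) (hUV : ∀ i k, ∑ j, U i j * V j k = 0)
    (hUX : ∀ i k, ∑ j, U i j * X j k = 0) (hVX : ∀ i k, ∑ j, V i j * X j k = 0)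
    (htU : ∑ i, U i i = 48) (htV : ∑ i, V i i = 48) (htX : ∑ i, X i i = 16)
    (hpU : ∀ i, 0 < U i i) (hpV : ∀ i, 0 < V i i) (hpX : ∀ i, 0 < X i i)
    (hlt : ∀ i, U i i + V i i + X i i < 16) (hdU : ∀ i j, 4 ∣ U i j + X i j)
    (hdV : ∀ i j, 4 ∣ V i j + X i j) {o : ι} (ho : Odd (X o o)) :
    Fintype.card ι = 16 ∨ Fintype.card ι ≤ 8 := by
  by_contra hcon
  push Not at hcon
  obtain ⟨d, hXd, hd0, hd16⟩ := exists_column hXs hX htX hpX ho
  choose A hA using hdU
  choose A' hA' using hdV
  have hge : ∀ i, 1 ≤ d i ^ 2 := fun i => by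
    have : d i ^ 2 ≠ 0 := pow_ne_zero 2 (hd0 i)
    have := sq_nonneg (d i)
    omega
  have hk16 : (Fintype.card ι : ℤ) ≤ 16 := by
    rw [← hd16, ← Finset.card_univ]
    simpa using Finset.card_nsmul_le_sum (univ : Finset ι) (fun i => d i ^ 2) 1 fun i _ => hge i
  have hsum1 : ∑ i, (d i ^ 2 - 1) = 16 - (Fintype.card ι : ℤ) := by
    rw [Finset.sum_sub_distrib, hd16]; simp
  have h14 : ∀ i, d i ^ 2 = 1 ∨ d i ^ 2 = 4 := fun i => sq_one_or_four (hd0 i) (by
    have := Finset.single_le_sum (f := fun i => d i ^ 2 - 1) (fun i _ => by have := hge i; omega)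
      (Finset.mem_univ i)
    rw [hsum1] at this
    have := hcon.2
    omega)
  set E := (univ : Finset ι).filter fun i => d i ^ 2 = 4 with hE
  have hcardE : (Fintype.card ι : ℤ) + 3 * E.card = 16 := by
    have : ∑ i, (d i ^ 2 - 1) = 3 * (E.card : ℤ) := by
      rw [Finset.sum_congr rfl fun i _ => show d i ^ 2 - 1 = if d i ^ 2 = 4 then 3 else 0 by
        rcases h14 i with e | e <;> rw [e] <;> norm_num, ← Finset.sum_filter]
      simp [hE, mul_comm]
    linarith
  have hUd : ∀ i, ∑ j, U i j * d j = 0 := fun i => by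
    have h := hUX i i
    rw [Finset.sum_congr rfl fun j _ => show U i j * X j i = U i j * d j * d i by rw [hXd]; ring,
      ← Finset.sum_mul] at h
    exact (mul_eq_zero.1 h).resolve_right (hd0 i)
  have hVd : ∀ i, ∑ j, V i j * d j = 0 := fun i => by
    have h := hVX i i
    rw [Finset.sum_congr rfl fun j _ => show V i j * X j i = V i j * d j * d i by rw [hXd]; ring,
      ← Finset.sum_mul] at h
    exact (mul_eq_zero.1 h).resolve_right (hd0 i)
  have hXd' : ∀ i, ∑ j, X i j * d j = 16 * d i := fun i => by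
    rw [Finset.sum_congr rfl fun j _ => show X i j * d j = d i * d j ^ 2 by rw [hXd]; ring,
      ← Finset.mul_sum, hd16, mul_comm]
  have hmk : ∀ {W : ι → ι → ℤ} {A : ι → ι → ℤ}, (∀ i j, W i j = W j i) →
      (∀ i k, ∑ j, W i j * W j k = 16 * W i k) → (∀ i k, ∑ j, W i j * X j k = 0) →
      (∀ i, ∑ j, W i j * d j = 0) → (∑ i, W i i = 48) → (∀ i, 0 < W i i) →
      (∀ i j, W i j + X i j = 4 * A i j) → (∀ i, d i ^ 2 = 4 → A i i ≤ 2) → Four d A := by
    intro W A hWs hW hWX hWd htW hpW hWA he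
    refine ⟨fun i j => ?_, fun i k => ?_, fun i => ?_, ?_, fun i => ?_, fun i hi => ?_⟩
    · have h1 := hWA i j
      have h2 := hWA j i
      rw [hWs j i, hXs j i] at h2
      omega
    · have hXW : ∑ j, X i j * W j k = 0 := by
        rw [← hWX k i]
        exact Finset.sum_congr rfl fun j _ => by rw [hXs i j, hWs j k]; ring
      have : ∑ j, (W i j + X i j) * (W j k + X j k) = 16 * (4 * A i k) := by
        simp only [add_mul, mul_add, Finset.sum_add_distrib]
        rw [hW, hX, hWX, hXW, ← hWA]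
        ring
      rw [Finset.sum_congr rfl fun j _ => show (W i j + X i j) * (W j k + X j k) =
        16 * (A i j * A j k) by rw [hWA, hWA]; ring, ← Finset.mul_sum] at this
      linarith
    · have : ∑ j, (W i j + X i j) * d j = 16 * d i := by
        simp only [add_mul, Finset.sum_add_distrib]
        rw [hWd, hXd', zero_add]
      rw [Finset.sum_congr rfl fun j _ => show (W i j + X i j) * d j = 4 * (A i j * d j) by
        rw [hWA]; ring, ← Finset.mul_sum] at this
      linarith
    · have : ∑ i, (W i i + X i i) = 64 := by rw [Finset.sum_add_distrib, htW, htX]; norm_num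
      rw [Finset.sum_congr rfl fun i _ => hWA i i, ← Finset.mul_sum] at this
      linarith
    · have := hWA i i; have := hpW i; have := hpX i; omega
    · have h1 := hWA i i
      have h2 := hXd i i
      rw [← sq, hi] at h2
      have h3 := hpW i
      have := he i hi
      omega
  have hkey : ∀ i, d i ^ 2 = 4 → A i i ≤ 2 ∧ A' i i ≤ 2 := fun i hi => by
    have h1 := hA i i
    have h2 := hA' i i
    have h3 := hXd i i
    rw [← sq, hi] at h3
    have := hlt i
    have := hpU i
    have := hpV i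
    omega
  have hF := hmk hUs hU hUX hUd htU hpU hA fun i hi => (hkey i hi).1
  have hF' := hmk hVs hV hVX hVd htV hpV hA' fun i hi => (hkey i hi).2
  have h9 := hcon.2
  have h16 := hcon.1
  have hE2 : E.card = 1 ∨ E.card = 2 := by omega
  rcases hE2 with h | h
  · -- thirteen characters
    obtain ⟨i, hi⟩ := Finset.card_eq_one.1 h
    have hiE : ∀ j, d j ^ 2 = 4 ↔ j = i := fun j => by
      have : j ∈ E ↔ j = i := by rw [hi]; simp
      rw [← this, hE, Finset.mem_filter]; simp
    have hi4 := (hiE i).2 rfl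
    rcases hF.even_row h14 hi4 with ⟨j, hji, hj4, -⟩ | ⟨N, hNc, hiN, hmem, h1, hs⟩
    · exact hji ((hiE j).1 hj4)
    have hN := four_odd h14 hi4 (h.le.trans one_le_two) hNc hiN h1 hs
    have hb := hF.card_bound {i} N (fun k hk => (hiE k).2 (Finset.mem_singleton.1 hk))
      (Finset.disjoint_singleton_left.2 hiN) fun j hj => by
        by_contra hlt
        have hjj : A j j = 1 := by have := hF.pos j; omega
        obtain ⟨k, hk, hk4, -⟩ := hF.second_even h14 hi4 (hN j hj).1
          ((hmem j fun e => hiN (e ▸ hj)).1 hj) hjj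
        exact hk ((hiE k).1 hk4)
    rw [Finset.card_singleton, hNc] at hb
    omega
  · -- ten characters
    obtain ⟨i, i', hne, hi⟩ := Finset.card_eq_two.1 h
    have hiE : ∀ j, d j ^ 2 = 4 ↔ j = i ∨ j = i' := fun j => by
      have : j ∈ E ↔ j = i ∨ j = i' := by rw [hi]; simp
      rw [← this, hE, Finset.mem_filter]; simp
    have hc10 : Fintype.card ι = 10 := by omega
    obtain ⟨hsq, hz⟩ := hF.joined h14 hne hiE hc10
    obtain ⟨hsq', -⟩ := hF'.joined h14 hne hiE hc10
    have hAA : ∑ j, A i j * A' j i = X i i := by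
      have : ∑ j, (U i j + X i j) * (V j i + X j i) = 16 * X i i := by
        have hXV : ∑ j, X i j * V j i = 0 := by
          rw [← hVX i i]
          exact Finset.sum_congr rfl fun j _ => by rw [hXs i j, hVs j i]; ring
        simp only [add_mul, mul_add, Finset.sum_add_distrib]
        rw [hUV, hUX, hXV, hX]
        ring
      rw [Finset.sum_congr rfl fun j _ => show (U i j + X i j) * (V j i + X j i) =
        16 * (A i j * A' j i) by rw [hA, hA']; ring, ← Finset.mul_sum] at this
      linarith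
    have hi4 := (hiE i).2 (Or.inl rfl)
    rw [hXd, ← sq, hi4, ← Finset.add_sum_erase _ _ (Finset.mem_univ i), hF.even i hi4, hF'.even i hi4,
      Finset.sum_eq_single i' (fun k hk hk' => by rw [hz k (Finset.ne_of_mem_erase hk) hk', zero_mul])
        (fun hk => absurd (Finset.mem_erase.2 ⟨hne.symm, Finset.mem_univ _⟩) hk),
      hF'.symm i' i] at hAA
    rcases cases_of_sq_eq_four hsq with e | e <;> rcases cases_of_sq_eq_four hsq' with e' | e' <;>
      rw [e, e'] at hAA <;> norm_num at hAA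

end CfsgLib.BlockSixteen
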