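import Cfsg.Agent.Lib.BlockSixteen.Matrices
import Cfsg.Agent.Lib.BlockSixteen.Orbit
import Cfsg.Agent.Lib.BlockSixteen.Combin
import Cfsg.Agent.Lib.BlockRank.Watanabe.Assemble
import Cfsg.Agent.S4646

/-!
# The blocks of the centralizers of the elements of a defect group of order sixteen
-/

set_option autoImplicit false
set_option maxHeartbeats 1000000
set_option synthInstance.maxHeartbeats 400000

open Cfsg CfsgLib.Blocks CfsgLib.Blocks.Pairs CfsgLib.BlockReg CfsgLib.BlockRank
open CfsgLib.BlockRank.Watanabe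
open scoped Classical

namespace CfsgLib.BlockSixteen

universe u

variable {G : Type u} [Group G] [Finite G] {p : ℕ} [Fact p.Prime] {M : Ideal AlgInt} [M.IsMaximal]
  [CharP (ResField M) p]

/-- A trivial stabilizer gives a block of rank one in the centralizer. -/
theorem lr_eq_one (hM : IsPModular p M) {B : MonoidAlgebra (ResField M) G} {P : Subgroup G}
    {e : MonoidAlgebra (ResField M) G} (hP : PairOf p B P e) (hno : NoExt p P e)
    (hab : ∀ x ∈ P, ∀ y ∈ P, x * y = y * x) {u : G} (hu : u ∈ P)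
    (hst : ∀ y ∈ pairStab P e, y * u * y⁻¹ = u → y ∈ Subgroup.centralizer (P : Set G)) :
    lr p P e (Subgroup.zpowers u) = 1 := by
  have hle := below_sle hP.pair (Subgroup.zpowers_le.2 hu)
  obtain ⟨hP', hno', hst'⟩ := local_pair rfl hP hno hab hle
  set H := Subgroup.centralizer (Subgroup.zpowers u : Set G) with hH
  obtain ⟨b, hb, hbe⟩ := exists_ebar_eq hP'.blockB
  have heIn : eIn hb = below p P e (Subgroup.zpowers u) := by
    rw [eIn, hbe, up_down (hle.pair_left hP.pair).block.mem.supp]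
  rw [lr, rk_eq hb heIn]
  refine (rankOne_of_trivial_inertial hM hb (hbe ▸ hP') hno'
    (fun x hx y hy => Subtype.ext (hab _ hx _ hy)) fun y hy => ?_).1
  have hyC : (y : G) ∈ Subgroup.centralizer (P : Set G) := hst _ (hst' y hy)
    (mul_inv_eq_iff_eq_mul.2
      (Subgroup.mem_centralizer_iff.1 y.2 u (Subgroup.mem_zpowers u)).symm)
  exact Subgroup.mem_centralizer_iff.2 fun x hx =>
    Subtype.ext (Subgroup.mem_centralizer_iff.1 hyC _ hx)

theorem two_cases {ι : Type*} [Fintype ι] {d : ι → ℤ} (hd : ∀ i, d i ≠ 0)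
    (h : ∑ i, d i ^ 2 = 16) : Fintype.card ι ≤ 16 ∧ Fintype.card ι ≠ 12 := by
  have hge : ∀ i, 1 ≤ d i ^ 2 := fun i => by
    have : d i ^ 2 ≠ 0 := pow_ne_zero 2 (hd i)
    have := sq_nonneg (d i)
    omega
  have hs : ∑ i, (d i ^ 2 - 1) = 16 - (Fintype.card ι : ℤ) := by
    rw [Finset.sum_sub_distrib, h]; simp
  have hnn : 0 ≤ ∑ i, (d i ^ 2 - 1) := Finset.sum_nonneg fun i _ => by have := hge i; omega
  refine ⟨by omega, fun h12 => ?_⟩
  rw [h12] at hs
  have h3 : (3 : ℤ) ∣ ∑ i, (d i ^ 2 - 1) := by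
    refine Finset.dvd_sum fun i hi => ?_
    have hle := Finset.single_le_sum (f := fun i => d i ^ 2 - 1)
      (fun i _ => by have := hge i; omega) hi
    rw [hs] at hle
    rcases sq_one_or_four (hd i) (by push_cast at hle; omega) with e | e <;> rw [e] <;> norm_num
  rw [hs] at h3
  norm_num at h3

/-- With a normal complement an element of odd order modulo the centralizer of an elementary
abelian 2-subgroup centralizes it. -/
theorem mem_centralizer_of_complement {H : Type u} [Group H] [Finite H] [Fact (Nat.Prime 2)]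
    {Q : Subgroup H} (hexp : ∀ x ∈ Q, x * x = 1) (hc : HasNormalPComplement 2 H) {y : H}
    (hy : y ∈ Subgroup.normalizer (Q : Set H)) (h9 : y ^ 9 ∈ Subgroup.centralizer (Q : Set H)) :
    y ∈ Subgroup.centralizer (Q : Set H) := by
  obtain ⟨K, hK, hKp, k, hk⟩ := CfsgLib.Transfer.hasNormalPComplement_iff_exists_normal.mp hc
  haveI := hK
  refine Pairs.mem_of_pow_mem (p := 2) (r := 9) (k := k) (by norm_num) h9 ?_
  obtain ⟨w, hw⟩ : ∃ w, w = y ^ 2 ^ k := ⟨_, rfl⟩
  rw [← hw]
  have hwK : w ∈ K := by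
    rw [hw, ← hk]
    exact Subgroup.pow_index_mem _ _
  have hwN : w ∈ Subgroup.normalizer (Q : Set H) := hw ▸ pow_mem hy _
  refine Subgroup.mem_centralizer_iff.2 fun x hx => ?_
  obtain ⟨c, hc'⟩ : ∃ c, c = w * x * w⁻¹ * x⁻¹ := ⟨_, rfl⟩
  have hcK : c ∈ K := by
    rw [hc', mul_assoc w, mul_assoc w]
    exact mul_mem hwK (hK.conj_mem _ (inv_mem hwK) _)
  have hcQ : c ∈ Q := by
    rw [hc']
    exact mul_mem ((Subgroup.mem_normalizer_iff.1 hwN x).1 hx) (inv_mem hx)
  have hc1 : c = 1 := by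
    rw [← orderOf_eq_one_iff]
    rcases (Nat.dvd_prime Nat.prime_two).1 (show orderOf c ∣ 2 by
      rw [orderOf_dvd_iff_pow_eq_one, sq]; exact hexp _ hcQ) with e | e
    · exact e
    · exact absurd (e ▸ (Subgroup.orderOf_mk c hcK ▸ orderOf_dvd_natCard (⟨c, hcK⟩ : K))) hKp
  rw [hc1] at hc'
  exact (mul_inv_eq_iff_eq_mul.1 (mul_inv_eq_one.1 hc'.symm)).symm

variable [Fact (Nat.Prime 2)] [CharP (ResField M) 2]

/-- The block at a point with stabilizer of index three. -/
theorem lr_three (hM : IsPModular 2 M) {B : MonoidAlgebra (ResField M) G} {P : Subgroup G}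
    {e : MonoidAlgebra (ResField M) G} (hP : PairOf 2 B P e) (hno : NoExt 2 P e)
    (h9 : Nine P (pairStab P e)) {a : G} (ha : a ∈ P)
    (h3 : (stab (pairStab P e) a).relIndex (pairStab P e) = 3)
    (h4 : Nat.card (fix P (pairStab P e) a) = 4) (haug : aug e = 1) (hB1 : aug B = 1) :
    lr 2 P e (Subgroup.zpowers a) = 3 := by
  have hab := h9.comm
  have hle := below_sle hP.pair (Subgroup.zpowers_le.2 ha)
  obtain ⟨hP', hno', hst⟩ := local_pair rfl hP hno hab hle
  set H := Subgroup.centralizer (Subgroup.zpowers a : Set G) with hH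
  haveI := Fintype.ofFinite G
  obtain ⟨b, hb, hbe⟩ := exists_ebar_eq hP'.blockB
  have heIn : eIn hb = below 2 P e (Subgroup.zpowers a) := by
    rw [eIn, hbe, up_down (hle.pair_left hP.pair).block.mem.supp]
  rw [lr, rk_eq hb heIn]
  rw [← hbe] at hP'
  have habH : ∀ x ∈ P.subgroupOf H, ∀ y ∈ P.subgroupOf H, x * y = y * x := fun x hx y hy =>
    Subtype.ext (hab _ hx _ hy)
  have hmemH : ∀ {y : G}, y ∈ H ↔ y * a * y⁻¹ = a := fun {y} => by
    rw [hH, Subgroup.zpowers_eq_closure, Subgroup.centralizer_closure,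
      Subgroup.mem_centralizer_singleton_iff, mul_inv_eq_iff_eq_mul]
  have hPH : P ≤ H := fun x hx => hmemH.2 (by rw [hab x hx a ha, mul_inv_cancel_right])
  set S := pairStab P e with hS
  set R := stab S a with hR
  have hRH : R ≤ H := fun y hy => hmemH.2 (mem_stab_iff.1 hy).2
  have hto : ∀ y ∈ pairStab (P.subgroupOf H) (down H e), (y : G) ∈ R := fun y hy =>
    mem_stab_iff.2 ⟨hst y hy, hmemH.1 y.2⟩
  have hback : ∀ y (hy : y ∈ R), (⟨y, hRH hy⟩ : H) ∈ pairStab (P.subgroupOf H) (down H e) := by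
    intro y hy
    have hyS := (mem_stab_iff.1 hy).1
    refine ⟨Subgroup.mem_normalizer_iff.2 fun w => Subgroup.mem_normalizer_iff.1 hyS.1 (w : G),
      up_injective H ?_⟩
    rw [up_conjA, up_down (hP.pair.block.mem.supp.mono
      (centralizer_anti (Subgroup.zpowers_le.2 ha))), hyS.2]
  have hcardP : Nat.card (P.subgroupOf H) = 16 := by
    rw [Nat.card_congr (Subgroup.subgroupOfEquivOfLe hPH).toEquiv, h9.card]
  have hd : blockDefect 2 b = 4 := by
    have h := card_defectGroup hM hb ((isDefectGroup_iff_maxR hM hb).2 (maxR_of_noExt hP' hno'))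
    rw [hcardP, show (16 : ℕ) = 2 ^ 4 by norm_num] at h
    exact (Nat.pow_right_injective le_rfl h).symm
  obtain ⟨T, φ, hT⟩ := exists_sectionsData hM hb hP' hno' habH
  obtain ⟨N, hN⟩ := exists_mat hM hd (fun x hx => Subtype.ext (h9.exp _ hx)) hT
  set F := fix P S a with hF
  have hC : Subgroup.centralizer (P : Set G) ≤ R := h9.centralizer_le_stab ha
  have hCR : (Subgroup.centralizer (P : Set G)).relIndex R = 3 := by
    have h := Subgroup.relIndex_mul_relIndex _ _ S hC inf_le_left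
    rw [h3, h9.idx] at h
    omega
  have htriv : ∀ {u : G}, u ∈ P → u ∉ F → stab R u = Subgroup.centralizer (P : Set G) := by
    intro u hu huF
    have hCu : Subgroup.centralizer (P : Set G) ≤ stab R u := fun y hy => mem_stab_iff.2
      ⟨hC hy, by rw [← Subgroup.mem_centralizer_iff.1 hy u hu, mul_inv_cancel_right]⟩
    have h := Subgroup.relIndex_mul_relIndex _ (stab R u) R hCu inf_le_left
    rw [hCR] at h
    rcases (Nat.dvd_prime Nat.prime_three).1 (Dvd.intro_left _ h) with e | e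
    · exact absurd (mem_fix_iff.2 ⟨hu, fun y hy =>
        (mem_stab_iff.1 (Subgroup.relIndex_eq_one.1 e hy)).2⟩) huF
    · rw [e] at h
      exact le_antisymm (Subgroup.relIndex_eq_one.1 (by omega)) hCu
  have hfixed : ∀ {u : G}, u ∈ F → stab R u = R := fun {u} hu =>
    le_antisymm inf_le_left fun y hy => mem_stab_iff.2 ⟨hy, (mem_fix_iff.1 hu).2 y hy⟩
  have hsum := sum_orb (S := R) (P := P) T (fun s => (φ s : G)) (inf_le_left.trans h9.norm)
    (fun s hs => hT.mem s hs)
    (fun u hu => by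
      obtain ⟨s, hs, y, hy, h⟩ := hT.surj ⟨u, hPH hu⟩ hu
      exact ⟨s, hs, y, hto y hy, congrArg Subtype.val h⟩)
    (fun s hs t ht y hy h => hT.inj s hs t ht _ (hback y hy) (Subtype.ext h))
  have hFcard : (T.filter fun s => (φ s : G) ∈ F).card = 4 := by
    haveI := Fintype.ofFinite F
    rw [← h4, Nat.card_eq_fintype_card, ← Finset.card_univ]
    refine Finset.card_bij (fun s hs => (⟨φ s, (Finset.mem_filter.1 hs).2⟩ : F))
      (fun _ _ => Finset.mem_univ _) (fun s hs t ht h => ?_) fun u _ => ?_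
    · exact hT.inj s (Finset.mem_filter.1 hs).1 t (Finset.mem_filter.1 ht).1 1 (one_mem _)
        (Subtype.ext (by simpa using congrArg Subtype.val h))
    · obtain ⟨s, hs, y, hy, h⟩ := hT.surj ⟨u, hPH (mem_fix_iff.1 u.2).1⟩ (mem_fix_iff.1 u.2).1
      have h' : (y : G) * φ s * (y : G)⁻¹ = u := congrArg Subtype.val h
      have hsu : (φ s : G) = u := by
        have h1 := (mem_fix_iff.1 u.2).2 _ (inv_mem (hto y hy))
        calc (φ s : G) = (y : G)⁻¹ * ((y : G) * φ s * (y : G)⁻¹) * ((y : G)⁻¹)⁻¹ := by group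
          _ = u := by rw [h']; exact h1
      exact ⟨s, Finset.mem_filter.2 ⟨hs, by rw [hsu]; exact u.2⟩, Subtype.ext hsu⟩
  rw [← Finset.sum_filter_add_sum_filter_not T fun s => (φ s : G) ∈ F,
    Finset.sum_congr rfl fun s hs => show (stab R (φ s : G)).relIndex R = 1 by
      rw [hfixed (Finset.mem_filter.1 hs).2, Subgroup.relIndex_self],
    Finset.sum_congr rfl fun s hs => show (stab R (φ s : G)).relIndex R = 3 by
      rw [htriv (u := (φ s : G)) (hT.mem s (Finset.mem_filter.1 hs).1) (Finset.mem_filter.1 hs).2, hCR],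
    Finset.sum_const, Finset.sum_const, hFcard, h9.card, smul_eq_mul, smul_eq_mul] at hsum
  have hNcard : (T.filter fun s => ¬ (φ s : G) ∈ F).card = 4 := by omega
  have hr1 : ∀ s ∈ T.filter (fun s => ¬ (φ s : G) ∈ F), blockRank 2 s.2 = 1 := by
    intro s hs
    obtain ⟨hsT, hsF⟩ := Finset.mem_filter.1 hs
    rw [hT.rank_eq hP'.pair hsT]
    refine lr_eq_one hM hP' hno' habH (hT.mem s hsT) fun y hy hyu => ?_
    have hyC : (y : G) ∈ Subgroup.centralizer (P : Set G) :=
      htriv (hT.mem s hsT) hsF ▸ mem_stab_iff.2 ⟨hto y hy, congrArg Subtype.val hyu⟩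
    exact Subgroup.mem_centralizer_iff.2 fun x hx =>
      Subtype.ext (Subgroup.mem_centralizer_iff.1 hyC _ hx)
  have hr : ∀ s ∈ T.filter (fun s => (φ s : G) ∈ F), blockRank 2 s.2 = blockRank 2 b := by
    intro s hs
    obtain ⟨hsT, hsF⟩ := Finset.mem_filter.1 hs
    rw [hT.rank_eq hP'.pair hsT]
    exact rank_statement hM
      (fun G _ _ B hB P e h1 h2 h3 => diagInt_of_starProps hM hB h1 h2 h3
        (BlockTwist.starProps hM hB h1 h2 h3))
      H b hb _ _ hP' hno' habH _ (hT.mem s hsT)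
      fun y hy => Subtype.ext ((mem_fix_iff.1 hsF).2 _ (hto y hy))
  have hk : Nat.card b = 4 * blockRank 2 b + 4 := by
    rw [hT.card, ← Finset.sum_filter_add_sum_filter_not T fun s => (φ s : G) ∈ F,
      Finset.sum_congr rfl hr, Finset.sum_congr rfl hr1, Finset.sum_const, Finset.sum_const,
      hFcard, hNcard, smul_eq_mul, smul_eq_mul]
  obtain ⟨s₁, hs₁⟩ := Finset.card_pos.1 (by rw [hNcard]; norm_num :
    0 < (T.filter fun s => ¬ (φ s : G) ∈ F).card)
  obtain ⟨hs₁T, -⟩ := Finset.mem_filter.1 hs₁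
  obtain ⟨o, ho⟩ := hN.odd s₁ hs₁T
  obtain ⟨d, -, hd0, hd16⟩ := exists_column (hN.symm s₁ hs₁T) (hN.sq s₁ hs₁T)
    (by rw [hN.trace s₁ hs₁T, hr1 s₁ hs₁]; norm_num) (hN.pos s₁ hs₁T) ho
  obtain ⟨hle16, hne12⟩ := two_cases hd0 hd16
  rw [← Nat.card_eq_fintype_card, hk] at hle16 hne12
  have hne1 : blockRank 2 b ≠ 1 := by
    intro h1
    have hb1 : b = principalBlock M H := by
      have h := (SLE.pairOf_iff hle).1 hP
      rw [pairOf_principal_iff h.blockB hB1 h.pair, ← heIn] at h
      exact (aug_eIn_eq_one_iff hb).1 h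
    have hcompl : HasNormalPComplement 2 H :=
      Cfsg.Agent.S4646.complement_of_blockRank_eq_one hM (hb1 ▸ h1)
    have hall : R ≤ Subgroup.centralizer (P : Set G) := by
      intro y hy
      obtain ⟨hyS, -⟩ := mem_stab_iff.1 hy
      haveI := h9.normal
      have h9' : y ^ 9 ∈ Subgroup.centralizer (P : Set G) := by
        have h := Subgroup.pow_index_mem ((Subgroup.centralizer (P : Set G)).subgroupOf S)
          (⟨y, hyS⟩ : S)
        rw [show ((Subgroup.centralizer (P : Set G)).subgroupOf S).index = 9 from h9.idx] at h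
        simpa [Subgroup.mem_subgroupOf] using h
      have hyC := mem_centralizer_of_complement (Q := P.subgroupOf H) (y := ⟨y, hRH hy⟩)
        (fun x hx => Subtype.ext (h9.exp _ hx)) hcompl (hback y hy).1
        (Subgroup.mem_centralizer_iff.2 fun x hx => Subtype.ext
          (Subgroup.mem_centralizer_iff.1 h9' _ hx))
      exact Subgroup.mem_centralizer_iff.2 fun x hx =>
        congrArg Subtype.val (Subgroup.mem_centralizer_iff.1 hyC ⟨x, hPH hx⟩ hx)
    have h := Subgroup.relIndex_eq_one.2 hall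
    rw [hCR] at h
    norm_num at h
  have h1 := CfsgLib.BlockRank.blockRank_pos (p := 2) (by norm_num) (IsPBlock.nonempty hb)
  omega

end CfsgLib.BlockSixteen
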