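import Cfsg.Agent.Lib.BlockTwist.Props
import Cfsg.Agent.Lib.BlockRank.Watanabe.Rank

/-!
# The integral contribution matrices of a 2-block with an elementary abelian defect group
-/

set_option autoImplicit false
set_option maxHeartbeats 1000000
set_option synthInstance.maxHeartbeats 400000

open Cfsg CfsgLib.Blocks CfsgLib.Blocks.Pairs CfsgLib.BlockReg CfsgLib.BlockRank
open CfsgLib.BlockRank.Watanabe
open scoped Classical ComplexConjugate

namespace CfsgLib.BlockSixteen

universe u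

theorem defect_add_minExp {H : Type u} [Group H] [Finite H] {p : ℕ} [Fact p.Prime]
    {M : Ideal AlgInt} (hM : IsPModular p M) {S : Set (IrrCharacter H)} (hS : IsPBlock M S) :
    blockDefect p S + minExp p S = (Nat.card H).factorization p := by
  haveI := Fintype.ofFinite H
  rw [CfsgLib.BlockReg.blockDefect_eq]
  obtain ⟨φ, hφ, hm⟩ := exists_minExp (p := p) (block_nonempty hM hS)
  have : minExp p S ≤ (Nat.card H).factorization p := hm ▸
    (Nat.factorization_le_iff_dvd (deg_pos φ).ne' Nat.card_pos.ne').2 (deg_dvd_card φ) p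
  omega

variable {G : Type u} [Group G] [Fintype G]

/-- The integral contribution matrices of the subsections. -/
structure Mat (M : Ideal AlgInt) (B : Set (IrrCharacter G)) (T : Finset (SecIdx G))
    (N : SecIdx G → B → B → ℤ) : Prop where
  cast : ∀ s ∈ T, ∀ i j : B, (N s i j : ℂ) = contrib 2 4 s.1 s.2 (i : IrrCharacter G) j
  symm : ∀ s ∈ T, ∀ i j, N s i j = N s j i
  sq : ∀ s ∈ T, ∀ i k, ∑ j, N s i j * N s j k = 16 * N s i k
  trace : ∀ s ∈ T, ∑ i, N s i i = 16 * (blockRank 2 s.2 : ℤ)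
  orth : ∀ s ∈ T, ∀ t ∈ T, s ≠ t → ∀ i k, ∑ j, N s i j * N t j k = 0
  pos : ∀ s ∈ T, ∀ i, 0 < N s i i
  total : ∀ i, ∑ s ∈ T, N s i i = 16
  odd : ∀ s ∈ T, ∃ o, Odd (N s o o)

variable [Fact (Nat.Prime 2)] {M : Ideal AlgInt} [M.IsMaximal] [CharP (ResField M) 2]
variable {B : Set (IrrCharacter G)} {P : Subgroup G} {e : MonoidAlgebra (ResField M) G}
variable {T : Finset (SecIdx G)} {φ : SecIdx G → G}

theorem exists_mat (hM : IsPModular 2 M) (hd : blockDefect 2 B = 4)
    (hexp : ∀ x ∈ P, x * x = 1) (hT : Sections 2 M B P e T φ) :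
    ∃ N : SecIdx G → B → B → ℤ, Mat M B T N := by
  have hint : ∀ s ∈ T, ∀ χ ψ : IrrCharacter G, ∃ z : ℤ,
      contrib 2 4 s.1 s.2 χ ψ = (z : ℂ) := by
    intro s hs χ ψ
    obtain ⟨g, hg, -⟩ := hT.link s hs
    have hord : orderOf s.1 ∣ 2 := by
      rw [← (MulEquiv.orderOf_eq (MulAut.conj g) s.1), MulAut.conj_apply, ← hg,
        orderOf_dvd_iff_pow_eq_one, sq]
      exact hexp _ (hT.mem s hs)
    set ζ := Complex.exp (2 * Real.pi * Complex.I / (orderOf s.1 : ℕ))
    have hζ : IsPrimitiveRoot ζ (orderOf s.1) :=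
      Complex.isPrimitiveRoot_exp _ (orderOf_pos s.1).ne'
    obtain ⟨m, i, Z, -, hcon, -⟩ := exists_contrib_form hM rfl hζ (hT.induced s hs) (d := 4)
      (by rw [← hd, ← hT.major s hs]; exact defect_add_minExp hM (hT.induced s hs).1)
    have hz : ∃ e : ℤ, ζ = (e : ℂ) := by
      have h2 : ζ ^ 2 = 1 := by
        obtain ⟨c, hc⟩ := hord
        rw [hc, pow_mul, hζ.pow_eq_one, one_pow]
      rcases sq_eq_one_iff.1 h2 with h | h
      · exact ⟨1, by rw [h, Int.cast_one]⟩
      · exact ⟨-1, by rw [h]; norm_num⟩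
    obtain ⟨ez, hez⟩ := hz
    refine ⟨∑ φ ∈ s.2.toFinset, ∑ θ ∈ s.2.toFinset,
      (m χ φ : ℤ) * (m ψ θ : ℤ) * Z φ θ * (ez ^ i χ φ * ez ^ i ψ θ), ?_⟩
    rw [hcon, cycloForm, hez]
    simp only [map_pow, map_intCast]
    push_cast
    exact Finset.sum_congr rfl fun _ _ => Finset.sum_congr rfl fun _ _ => by ring
  choose N hN using fun (s : SecIdx G) (i j : B) => show ∃ z : ℤ, s ∈ T →
      contrib 2 4 s.1 s.2 (i : IrrCharacter G) j = (z : ℂ) by
    by_cases hs : s ∈ T
    · obtain ⟨z, hz⟩ := hint s hs i j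
      exact ⟨z, fun _ => hz⟩
    · exact ⟨0, fun h => absurd h hs⟩
  have hc : ∀ s ∈ T, ∀ i j : B, (N s i j : ℂ) = contrib 2 4 s.1 s.2 (i : IrrCharacter G) j :=
    fun s hs i j => (hN s i j hs).symm
  have hsym : ∀ s ∈ T, ∀ i j, N s i j = N s j i := by
    intro s hs i j
    have h := conj_contrib (p := 2) 4 s.1 s.2 (i : IrrCharacter G) j
    rw [← hc s hs i j, ← hc s hs j i, map_intCast] at h
    exact_mod_cast h
  have hconj : ∀ s ∈ T, ∀ i j : B, conj (contrib 2 4 s.1 s.2 (i : IrrCharacter G) j) =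
      (N s i j : ℂ) := fun s hs i j => by rw [← hc s hs, map_intCast]
  have hdiag : ∀ s ∈ T, ∀ i : B, (N s i i : ℂ) = 16 * diag 2 s (i : IrrCharacter G) := by
    intro s hs i
    rw [hc s hs, diag]
    simp only [contrib, pow_zero, Nat.cast_one, one_mul]
    norm_num
    congr!
  have hrow : ∀ s ∈ T, ∀ i : B, ∑ j, N s i j * N s i j = 16 * N s i i := by
    intro s hs i
    have h := sum_contrib_mul_conj hM rfl (hT.pelem s hs) (hT.induced s hs) 4 (i : IrrCharacter G)
    rw [Finset.sum_subtype B.toFinset (fun y => Set.mem_toFinset)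
      (fun ψ : IrrCharacter G => contrib 2 4 s.1 s.2 (i : IrrCharacter G) ψ *
        conj (contrib 2 4 s.1 s.2 (i : IrrCharacter G) ψ)),
      Finset.sum_congr rfl fun j _ => by rw [hconj s hs i j, ← hc s hs i j], ← hc s hs i i] at h
    norm_num at h
    exact_mod_cast h
  have horth : ∀ s ∈ T, ∀ t ∈ T, s ≠ t → ∀ i k, ∑ j, N s i j * N t j k = 0 := by
    intro s hs t ht hne i k
    have hne' : ¬ IsConj s.1 t.1 ∨ ∃ h : s.1 = t.1, ¬ HEq s.2 t.2 := by
      by_cases h : IsConj s.1 t.1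
      · right
        obtain ⟨X, hX, hXrep, hmem⟩ := hT.complete
        have he : s.1 = t.1 := (hXrep s.1 (hT.pelem s hs)).unique
          ⟨((hmem s).1 hs).1, IsConj.refl _⟩ ⟨((hmem t).1 ht).1, h⟩
        exact ⟨he, fun h' => hne (Sigma.ext he h')⟩
      · exact Or.inl h
    have h := sum_contrib_mul_conj_ne hM (hT.pelem s hs) (hT.pelem t ht) (hT.induced s hs)
      (hT.induced t ht).1 hne' 4 (i : IrrCharacter G) k
    rw [Finset.sum_subtype B.toFinset (fun y => Set.mem_toFinset)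
      (fun χ : IrrCharacter G => contrib 2 4 s.1 s.2 χ (i : IrrCharacter G) *
        conj (contrib 2 4 t.1 t.2 χ (k : IrrCharacter G))),
      Finset.sum_congr rfl fun j _ => by rw [hconj t ht j k, ← hc s hs j i, hsym s hs j i]] at h
    exact_mod_cast h
  have htot : ∀ i, ∑ s ∈ T, N s i i = 16 := fun i => by
    have h := hT.total (i : IrrCharacter G) i.2
    have h' : (∑ s ∈ T, (N s i i : ℂ)) = 16 := by
      rw [Finset.sum_congr rfl fun s hs => hdiag s hs i, ← Finset.mul_sum, h, mul_one]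
    exact_mod_cast h'
  have hone : ∀ i j, i ≠ j → ∑ t ∈ T, N t i j = 0 := by
    intro i j hij
    have h256 : ∑ k, (∑ t ∈ T, N t i k) ^ 2 = 256 := by
      simp only [sq, Finset.sum_mul_sum]
      rw [Finset.sum_comm, Finset.sum_congr rfl fun s (hs : s ∈ T) =>
        show ∑ k, ∑ t ∈ T, N s i k * N t i k = 16 * N s i i by
          rw [Finset.sum_comm, Finset.sum_eq_single_of_mem s hs fun t ht hts => ?_, hrow s hs i]
          rw [← horth s hs t ht hts.symm i i]
          exact Finset.sum_congr rfl fun k _ => by rw [hsym t ht i k],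
        ← Finset.mul_sum, htot]
      norm_num
    rw [← Finset.add_sum_erase _ _ (Finset.mem_univ i), htot] at h256
    exact (pow_eq_zero_iff two_ne_zero).1 ((Finset.sum_eq_zero_iff_of_nonneg fun k _ => sq_nonneg
      (∑ t ∈ T, N t i k)).1 (by linarith) j (Finset.mem_erase.2 ⟨hij.symm, Finset.mem_univ _⟩))
  refine ⟨N, hc, hsym, ?_, fun s hs => ?_, horth, fun s hs i => ?_, htot, fun s hs => ?_⟩
  · intro s hs i k
    have h : ∑ j, N s i j * ∑ t ∈ T, N t j k = 16 * N s i k := by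
      rw [Finset.sum_eq_single k (fun j _ hjk => by rw [hone j k hjk, mul_zero])
        (fun h => absurd (Finset.mem_univ k) h), htot, mul_comm]
    simp only [Finset.mul_sum] at h
    rw [Finset.sum_comm, Finset.sum_eq_single_of_mem s hs
      fun t ht hts => horth s hs t ht hts.symm i k] at h
    exact h
  · have h := sum_contrib_self hM rfl (hT.pelem s hs) (hT.induced s hs) 4
    rw [Finset.sum_subtype B.toFinset (fun y => Set.mem_toFinset)
      (fun χ : IrrCharacter G => contrib 2 4 s.1 s.2 χ χ),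
      Finset.sum_congr rfl fun j _ => (hc s hs j j).symm] at h
    norm_num at h
    exact_mod_cast h
  · obtain ⟨r, hr0, hr⟩ := exists_diag_eq (p := 2) s (i : IrrCharacter G)
    have hr1 : r ≠ 0 := fun h => diag_ne_zero hM hT hs i.2 (by rw [hr, h, Complex.ofReal_zero])
    have h := hdiag s hs i
    rw [hr] at h
    have h' : (N s i i : ℝ) = 16 * r := by exact_mod_cast h
    have : (0 : ℝ) < N s i i := by rw [h']; positivity
    exact_mod_cast this
  · obtain ⟨ψ, hψ, hh⟩ := exists_minExp (p := 2) (block_nonempty hM (hT.induced s hs).2.1)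
    obtain ⟨k, hk⟩ := hT.pelem s hs
    have h := (contrib_self_unit hM rfl hk (hT.induced s hs) (d := 4)
      (by rw [← hd, ← hT.major s hs]; exact defect_add_minExp hM (hT.induced s hs).1) hψ hh).2
    rw [← hc s hs ⟨ψ, hψ⟩ ⟨ψ, hψ⟩, memIdeal_intCast_iff hM] at h
    exact ⟨⟨ψ, hψ⟩, Int.not_even_iff_odd.1 fun h' => h (even_iff_two_dvd.1 h')⟩

/-- The congruence given by an invariant generalized character. -/
theorem star_congr (hM : IsPModular 2 M) (hB : IsPBlock M B) (hP : PairOf 2 (ebar hB) P e)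
    (hno : NoExt 2 P e) (hab : ∀ x ∈ P, ∀ y ∈ P, x * y = y * x) (hd : blockDefect 2 B = 4)
    (hT : Sections 2 M B P e T φ) {N : SecIdx G → B → B → ℤ} (hN : Mat M B T N) (f : G → ℤ)
    (hinv : ∀ y ∈ pairStab P e, ∀ u ∈ P, f (y * u * y⁻¹) = f u)
    (hgen : IsGeneralizedCharacter P fun u : P => (f u : ℂ)) (i j : B) :
    16 ∣ ∑ s ∈ T, f (φ s) * N s i j := by
  set η : G → ℂ := fun g => (f g : ℂ)
  have hinv' : ∀ y ∈ pairStab P e, ∀ u ∈ P, η (y * u * y⁻¹) = η u := fun y hy u hu => by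
    simp only [η, hinv y hy u hu]
  have hst : CfsgLib.BlockStar.Stable 2 P e η := by
    intro u hu g g' h1 h2
    rw [CfsgLib.BlockStar.conjSub_zpowers_eq] at h2
    obtain ⟨y, hy, hyu⟩ := exists_stab_of_fusion hP hno hab h1 h2
    rw [← hyu]
    exact hinv' y hy u hu
  have hχ := CfsgLib.Char.IsIrrCharacter.isClassFunction i.1.2
  obtain ⟨z, hz⟩ := CfsgLib.CharExc.exists_int_classInner
    (BlockTwist.isGeneralizedCharacter_blockStar hM hP hno hab hst hgen
      (CfsgLib.Char.IsIrrCharacter.isCharacter i.1.2)) j.1.2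
  obtain ⟨X, hX, hXrep, hmem⟩ := hT.complete
  rw [classInner_eq_sum_contrib hM hB hP hno hab η hinv' T φ hT.surj
    (fun s hs t ht h => (hXrep s.1 (hT.pelem s hs)).unique
      ⟨((hmem s).1 hs).1, IsConj.refl _⟩ ⟨((hmem t).1 ht).1, h⟩)
    (fun s hs => by
      obtain ⟨g, hg, hb, hle⟩ := hT.link s hs
      exact ⟨g, hb, hg.symm, hle⟩)
    (CfsgLib.BlockStar.isClassFunction_star hM hst hχ)
    (fun x hx s hs => BlockTwist.star_section hM hχ hx s hs) (χ := i.1) (ψ := j.1), hd,
    Finset.sum_congr rfl fun s hs => by rw [← hN.cast s hs i j]] at hz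
  refine ⟨z, ?_⟩
  simp only [η] at hz
  norm_num at hz
  field_simp at hz
  exact_mod_cast hz

end CfsgLib.BlockSixteen
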